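import Groth.Agent.ChowLib.ProjPt
import Mathlib.AlgebraicGeometry.ProjectiveSpectrum.Functor

/-!
# Morphisms into `Proj` of a graded ring given by ring maps into global functions

`ptG 𝒜 φ ht hd hu : Y ⟶ Proj 𝒜` for `φ : A →+* Γ(Y, ⊤)` and homogeneous `t` of positive degree with
`φ t` invertible.
-/

universe u

open CategoryTheory CategoryTheory.Limits AlgebraicGeometry HomogeneousLocalization

noncomputable section

namespace RelProjLib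

variable {A : Type u} {σ : Type u} [CommRing A] [SetLike σ A] [AddSubgroupClass σ A] (𝒜 : ℕ → σ)
  [GradedRing 𝒜] {T : Type u} [CommRing T]

/-- evaluation of a fraction of degree zero -/
def awayLift (φ : A →+* T) (t : A) (hu : IsUnit (φ t)) : Away 𝒜 t →+* T :=
  (IsLocalization.Away.lift (S := Localization.Away t) t hu).comp
    (algebraMap (Away 𝒜 t) (Localization.Away t))

lemma awayLift_mk (φ : A →+* T) {t : A} {d : ℕ} (ht : t ∈ 𝒜 d) (hu : IsUnit (φ t)) (k : ℕ) (a : A)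
    (ha : a ∈ 𝒜 (k • d)) : awayLift 𝒜 φ t hu (Away.mk 𝒜 ht k a ha) * φ t ^ k = φ a := by
  have h : (Away.mk 𝒜 ht k a ha).val * algebraMap _ (Localization.Away t) (t ^ k) =
      algebraMap _ (Localization.Away t) a := by
    rw [Away.val_mk, Localization.mk_eq_mk']
    exact IsLocalization.mk'_spec _ a _
  have := congrArg (IsLocalization.Away.lift (S := Localization.Away t) t hu) h
  rw [map_mul, IsLocalization.Away.lift_eq, IsLocalization.Away.lift_eq, map_pow] at this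
  exact this

lemma away_ext {t : A} {d : ℕ} (ht : t ∈ 𝒜 d) {f g : Away 𝒜 t →+* T}
    (h : ∀ k a (ha : a ∈ 𝒜 (k • d)), f (Away.mk 𝒜 ht k a ha) = g (Away.mk 𝒜 ht k a ha)) :
    f = g := by
  refine RingHom.ext fun z => ?_
  obtain ⟨k, a, ha, rfl⟩ := Away.mk_surjective 𝒜 ht z
  exact h k a ha

lemma awayLift_scale (φ ψ : A →+* T) (c : T) (h : ∀ k, ∀ a ∈ 𝒜 k, ψ a = c ^ k * φ a) {t : A} {d : ℕ}
    (ht : t ∈ 𝒜 d) (hφ : IsUnit (φ t)) (hψ : IsUnit (ψ t)) :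
    awayLift 𝒜 φ t hφ = awayLift 𝒜 ψ t hψ := by
  refine away_ext 𝒜 ht fun k a ha => (hψ.pow k).mul_right_cancel ?_
  rw [awayLift_mk 𝒜 ψ ht hψ k a ha, h _ a ha, ← awayLift_mk 𝒜 φ ht hφ k a ha, h d t ht, mul_pow,
    ← pow_mul, smul_eq_mul]
  ring

lemma awayLift_comp_awayMap (φ : A →+* T) {f g x : A} {e : ℕ} (hg : g ∈ 𝒜 e) (hx : x = f * g)
    (hf : IsUnit (φ f)) (hxu : IsUnit (φ x)) :
    (awayLift 𝒜 φ x hxu).comp (awayMap 𝒜 hg hx) = awayLift 𝒜 φ f hf := by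
  refine RingHom.ext fun a => ?_
  simp only [awayLift, RingHom.coe_comp, Function.comp_apply,
    HomogeneousLocalization.algebraMap_apply, val_awayMap]
  refine RingHom.congr_fun (f := (IsLocalization.Away.lift (S := Localization.Away x) x hxu).comp
    (Localization.awayLift (algebraMap _ (Localization.Away x)) f _))
    (g := IsLocalization.Away.lift (S := Localization.Away f) f hf) ?_ a.val
  apply IsLocalization.ringHom_ext (Submonoid.powers f)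
  refine RingHom.ext fun b => ?_
  simp [Localization.awayLift, IsLocalization.Away.lift_eq]

lemma comp_awayLift {T' : Type u} [CommRing T'] (g : T →+* T') (φ : A →+* T) {t : A} {d : ℕ}
    (ht : t ∈ 𝒜 d) (hu : IsUnit (φ t)) :
    g.comp (awayLift 𝒜 φ t hu) = awayLift 𝒜 (g.comp φ) t (hu.map g) := by
  refine away_ext 𝒜 ht fun k a ha => ((hu.map g).pow k).mul_right_cancel ?_
  refine Eq.trans ?_ (awayLift_mk 𝒜 (g.comp φ) ht (hu.map g) k a ha).symm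
  rw [RingHom.comp_apply, RingHom.comp_apply, ← map_pow, ← map_mul, awayLift_mk]

variable {Y Y' : Scheme.{u}}

/-- the point of `Proj` with homogeneous coordinates given by `φ` -/
def ptG (φ : A →+* Γ(Y, ⊤)) {t : A} {d : ℕ} (ht : t ∈ 𝒜 d) (hd : 0 < d) (hu : IsUnit (φ t)) :
    Y ⟶ Proj 𝒜 :=
  ChowLib.toSpecOf (awayLift 𝒜 φ t hu) ≫ Proj.awayι 𝒜 t ht hd

lemma comp_ptG (a : Y' ⟶ Y) (φ : A →+* Γ(Y, ⊤)) {t : A} {d : ℕ} (ht : t ∈ 𝒜 d) (hd : 0 < d)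
    (hu : IsUnit (φ t)) :
    a ≫ ptG 𝒜 φ ht hd hu = ptG 𝒜 (a.appTop.hom.comp φ) ht hd (hu.map a.appTop.hom) := by
  rw [ptG, ptG, ← Category.assoc, ChowLib.comp_toSpecOf, comp_awayLift 𝒜 a.appTop.hom φ ht hu]

lemma ptG_change (φ : A →+* Γ(Y, ⊤)) {t t' : A} {d d' : ℕ} (ht : t ∈ 𝒜 d) (hd : 0 < d)
    (hu : IsUnit (φ t)) (ht' : t' ∈ 𝒜 d') (hd' : 0 < d') (hu' : IsUnit (φ t')) :
    ptG 𝒜 φ ht hd hu = ptG 𝒜 φ ht' hd' hu' := by
  have key : ∀ {a b x : A} {i j : ℕ} (ha : a ∈ 𝒜 i) (hi : 0 < i) (hb : b ∈ 𝒜 j) (hau : IsUnit (φ a))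
      (hx : x = a * b) (hxu : IsUnit (φ x)),
      ptG 𝒜 φ ha hi hau = ChowLib.toSpecOf (awayLift 𝒜 φ x hxu) ≫
        Proj.awayι 𝒜 x (hx ▸ SetLike.mul_mem_graded ha hb) (hi.trans_le (Nat.le_add_right i j)) := by
    intro a b x i j ha hi hb hau hx hxu
    rw [ptG, ChowLib.toSpecOf, ChowLib.toSpecOf, Category.assoc, Category.assoc,
      ← awayLift_comp_awayMap 𝒜 φ hb hx hau hxu, CommRingCat.ofHom_comp, Spec.map_comp,
      Category.assoc, Proj.SpecMap_awayMap_awayι 𝒜 ha hi hb hx]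
  have hxu : IsUnit (φ (t * t')) := by rw [map_mul]; exact hu.mul hu'
  rw [key ht hd ht' hu rfl hxu, key ht' hd' ht hu' (mul_comm t t') hxu]
  congr! 2
  exact Nat.add_comm d d'

lemma ptG_scale (φ ψ : A →+* Γ(Y, ⊤)) (c : Γ(Y, ⊤)) (h : ∀ k, ∀ a ∈ 𝒜 k, ψ a = c ^ k * φ a)
    {t : A} {d : ℕ} (ht : t ∈ 𝒜 d) (hd : 0 < d) (hφ : IsUnit (φ t)) (hψ : IsUnit (ψ t)) :
    ptG 𝒜 φ ht hd hφ = ptG 𝒜 ψ ht hd hψ := by
  rw [ptG, ptG, awayLift_scale 𝒜 φ ψ c h ht hφ hψ]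

lemma ptG_toSpecZero (φ : A →+* Γ(Y, ⊤)) {t : A} {d : ℕ} (ht : t ∈ 𝒜 d) (hd : 0 < d)
    (hu : IsUnit (φ t)) :
    ptG 𝒜 φ ht hd hu ≫ Proj.toSpecZero 𝒜 =
      ChowLib.toSpecOf (φ.comp (algebraMap (𝒜 0) A)) := by
  rw [ptG, Category.assoc, Proj.awayι_toSpecZero, ChowLib.toSpecOf, ChowLib.toSpecOf,
    Category.assoc, ← Spec.map_comp, ← CommRingCat.ofHom_comp]
  congr 3
  refine RingHom.ext fun a => ?_
  have := awayLift_mk 𝒜 φ ht hu 0 a.1 (by simp)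
  rw [pow_zero, mul_one] at this
  rw [RingHom.comp_apply, RingHom.comp_apply]
  refine Eq.trans ?_ this
  congr 1
  apply HomogeneousLocalization.val_injective
  simp [fromZeroRingHom]

lemma ptG_preimage (φ : A →+* Γ(Y, ⊤)) {t : A} {d : ℕ} (ht : t ∈ 𝒜 d) (hd : 0 < d)
    (hu : IsUnit (φ t)) {s : A} {e : ℕ} (hs : s ∈ 𝒜 e) (he : 0 < e) :
    ptG 𝒜 φ ht hd hu ⁻¹ᵁ Proj.basicOpen 𝒜 s = Y.basicOpen (φ s) := by
  rw [ptG, ChowLib.toSpecOf, Scheme.Hom.comp_preimage,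
    Proj.awayι_preimage_basicOpen 𝒜 ht hd hs he, Scheme.Hom.comp_preimage]
  erw [show Spec.map (CommRingCat.ofHom (awayLift 𝒜 φ t hu)) ⁻¹ᵁ
    PrimeSpectrum.basicOpen (Away.isLocalizationElem ht hs) =
    PrimeSpectrum.basicOpen (awayLift 𝒜 φ t hu (Away.isLocalizationElem ht hs)) from rfl]
  erw [Scheme.toSpecΓ_preimage_basicOpen]
  have h1 := awayLift_mk 𝒜 φ ht hu e (s ^ d)
    (by convert SetLike.pow_mem_graded d hs using 2; exact mul_comm _ _)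
  rw [← Scheme.basicOpen_pow Y (φ s) hd, ← map_pow, ← h1, Scheme.basicOpen_mul,
    Y.basicOpen_of_isUnit (hu.pow e), inf_top_eq]

lemma awayLift_map {B : Type u} {τ : Type u} [CommRing B] [SetLike τ B] [AddSubgroupClass τ B]
    {ℬ : ℕ → τ} [GradedRing ℬ] (ψ : 𝒜 →+*ᵍ ℬ) (φ : B →+* T) {t : A} {d : ℕ} (ht : t ∈ 𝒜 d)
    (hu : IsUnit (φ (ψ t))) (hu' : IsUnit ((φ.comp (ψ : A →+* B)) t)) :
    (awayLift ℬ φ (ψ t) hu).comp (Away.map ψ t) = awayLift 𝒜 (φ.comp (ψ : A →+* B)) t hu' := by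
  refine away_ext 𝒜 ht fun k a ha => (hu'.pow k).mul_right_cancel ?_
  refine Eq.trans ?_ (awayLift_mk 𝒜 (φ.comp (ψ : A →+* B)) ht hu' k a ha).symm
  rw [RingHom.comp_apply, Away.map_mk]
  exact awayLift_mk ℬ φ (ψ.map_mem ht) hu k (ψ a) (ψ.map_mem ha)

lemma ptG_map {B : Type u} {τ : Type u} [CommRing B] [SetLike τ B] [AddSubgroupClass τ B]
    {ℬ : ℕ → τ} [GradedRing ℬ] (ψ : 𝒜 →+*ᵍ ℬ)
    (hirr : (HomogeneousIdeal.irrelevant ℬ) ≤ (HomogeneousIdeal.irrelevant 𝒜).map ψ)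
    (φ : B →+* Γ(Y, ⊤)) {t : A} {d : ℕ} (ht : t ∈ 𝒜 d) (hd : 0 < d) (hu : IsUnit (φ (ψ t)))
    (hu' : IsUnit ((φ.comp (ψ : A →+* B)) t)) :
    ptG ℬ φ (ψ.map_mem ht) hd hu ≫ Proj.map ψ hirr =
      ptG 𝒜 (φ.comp (ψ : A →+* B)) ht hd hu' := by
  refine (Category.assoc _ _ _).trans ?_
  refine (congrArg (ChowLib.toSpecOf (awayLift ℬ φ (ψ t) hu) ≫ ·)
    (Proj.awayι_comp_map ψ hirr hd t ht)).trans ?_
  rw [← Category.assoc]
  refine congrArg (· ≫ Proj.awayι 𝒜 t ht hd) ?_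
  refine (Category.assoc _ _ _).trans ?_
  rw [← Spec.map_comp, ← CommRingCat.ofHom_comp]
  exact congrArg ChowLib.toSpecOf (awayLift_map 𝒜 ψ φ ht hu hu')

end RelProjLib

end
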