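import Groth.Agent.ChowLib.Embed
import Groth.Agent.RelProjLib.PtGraded
import Mathlib.AlgebraicGeometry.AffineScheme

/-!
# Homogeneous coordinates on a closed subscheme of `P^n_S`
-/

set_option autoImplicit false
universe u

open CategoryTheory CategoryTheory.Limits AlgebraicGeometry TopologicalSpace Opposite
open ChowLib

noncomputable section

namespace RelProjLib

variable {X S : Scheme.{u}} {n : ℕ} (f : X ⟶ S) (q : X ⟶ PZ.{u} n)

/-- the part of `X` where the `a`-th coordinate is invertible, over `W` -/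
def piece (a : Fin (n + 1)) (W : S.Opens) : X.Opens := q ⁻¹ᵁ Dplus a ⊓ f ⁻¹ᵁ W

lemma piece_le (a : Fin (n + 1)) (W : S.Opens) : piece f q a W ≤ q ⁻¹ᵁ Dplus a := inf_le_left

lemma piece_mono (a : Fin (n + 1)) {V W : S.Opens} (h : V ≤ W) : piece f q a V ≤ piece f q a W :=
  inf_le_inf_left _ (f.preimage_mono h)

lemma iSup_piece (W : S.Opens) : ⨆ a, piece f q a W = f ⁻¹ᵁ W := by
  simp only [piece, ← iSup_inf_eq, ← Scheme.Hom.preimage_iSup, iSup_Dplus]
  exact top_inf_eq _

lemma exists_coord (a : Fin (n + 1)) :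
    ∃ (v : Fin (n + 1) → Γ((q ⁻¹ᵁ Dplus a).toScheme, ⊤)) (hu : IsUnit (v a)),
      (q ⁻¹ᵁ Dplus a).ι ≫ q = pt v a hu ∧ v a = 1 :=
  exists_pt _ a (by ext x; simp)

/-- the coordinate `x_j / x_a`, on an open inside the `a`-th piece -/
def coord (a j : Fin (n + 1)) {W : X.Opens} (hW : W ≤ q ⁻¹ᵁ Dplus a) : Γ(X, W) :=
  X.presheaf.map (homOfLE hW).op ((q ⁻¹ᵁ Dplus a).topIso.hom ((exists_coord q a).choose j))

lemma coord_res (a j : Fin (n + 1)) {W W' : X.Opens} (hW : W ≤ q ⁻¹ᵁ Dplus a) (h : W' ≤ W) :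
    X.presheaf.map (homOfLE h).op (coord q a j hW) = coord q a j (h.trans hW) := by
  rw [coord, coord, ← CommRingCat.comp_apply, ← Functor.map_comp]
  rfl

lemma coord_self (a : Fin (n + 1)) {W : X.Opens} (hW : W ≤ q ⁻¹ᵁ Dplus a) :
    coord q a a hW = 1 := by
  simp only [coord, (exists_coord q a).choose_spec.choose_spec.2, map_one]

/-- on an open, the coordinates represent `q` -/
lemma ι_comp_q (a : Fin (n + 1)) {W : X.Opens} (hW : W ≤ q ⁻¹ᵁ Dplus a) :
    W.ι ≫ q = pt (fun j => W.topIso.inv (coord q a j hW)) a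
      (by rw [coord_self, map_one]; exact isUnit_one) := by
  obtain ⟨hu, h, h1⟩ := (exists_coord q a).choose_spec
  rw [← Scheme.homOfLE_ι X hW, Category.assoc, h, comp_pt]
  congr 1
  funext j
  change (X.homOfLE hW).appTop ((exists_coord q a).choose j) = _
  rw [coord, ← CommRingCat.comp_apply, ← CommRingCat.comp_apply, Scheme.homOfLE_appTop]
  congr 2
  simp only [Scheme.Opens.topIso_inv, Scheme.Opens.topIso_hom]
  erw [← Functor.map_comp, ← Functor.map_comp]
  rfl

lemma coord_change (a b j : Fin (n + 1)) {W : X.Opens} (hWa : W ≤ q ⁻¹ᵁ Dplus a)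
    (hWb : W ≤ q ⁻¹ᵁ Dplus b) :
    coord q a j hWa = coord q b j hWb * coord q a b hWa := by
  have h := prop_of_pt_eq _ _ a b _ _ ((ι_comp_q q a hWa).symm.trans (ι_comp_q q b hWb)) j
  simp only [coord_self, map_one, mul_one, ← map_mul] at h
  exact (ConcreteCategory.bijective_of_isIso W.topIso.inv).1 h

lemma isUnit_coord (a b : Fin (n + 1)) {W : X.Opens} (hWa : W ≤ q ⁻¹ᵁ Dplus a)
    (hWb : W ≤ q ⁻¹ᵁ Dplus b) : IsUnit (coord q a b hWa) := by
  have := coord_change q a b a hWa hWb
  rw [coord_self, mul_comm] at this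
  exact isUnit_iff_exists_inv.mpr ⟨_, this.symm⟩

/-- where `x_b` is invertible inside the `a`-th piece -/
lemma basicOpen_coord (a b : Fin (n + 1)) {W : X.Opens} (hWa : W ≤ q ⁻¹ᵁ Dplus a) :
    X.basicOpen (coord q a b hWa) = W ⊓ q ⁻¹ᵁ Dplus b := by
  have h := congrArg (fun φ : W.toScheme ⟶ PZ.{u} n => φ ⁻¹ᵁ Dplus b) (ι_comp_q q a hWa)
  simp only [Scheme.Hom.comp_preimage, pt_preimage] at h
  have h2 := congrArg (fun V : W.toScheme.Opens => W.ι ''ᵁ V) h
  rw [Scheme.Hom.image_preimage_eq_opensRange_inf, Scheme.Opens.opensRange_ι] at h2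
  rw [h2]
  exact (Scheme.Opens.ι_image_basicOpen_topIso_inv W _).symm

variable (i : X ⟶ CohB1.ProjSpaceOver n S) [IsClosedImmersion i]
  (hi : i ≫ CohB1.ProjSpaceOver.toBase n S = f) (hq : i ≫ toPZ n S = q)

include hi hq in
lemma piece_eq_preimage (a : Fin (n + 1)) (U : S.Opens) :
    piece f q a U =
      i ⁻¹ᵁ (toPZ n S ⁻¹ᵁ Dplus a ⊓ CohB1.ProjSpaceOver.toBase n S ⁻¹ᵁ U) := by
  rw [piece, ← hi, ← hq]; rfl

include hi hq in
lemma isAffineOpen_piece (a : Fin (n + 1)) {U : S.Opens} (hU : IsAffineOpen U) :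
    IsAffineOpen (piece f q a U) := by
  rw [piece_eq_preimage f q i hi hq a U]
  refine IsAffineOpen.preimage ?_ i
  have : IsAffine (Dplus.{u} a).toScheme := isAffineOpen_Dplus a
  have : IsAffine U.toScheme := hU
  let j : pullback ((Dplus.{u} a).ι ≫ CohB1.ProjSpace.toSpec n Z.{u})
      (U.ι ≫ specULiftZIsTerminal.from S) ⟶ CohB1.ProjSpaceOver n S :=
    pullback.map _ _ _ _ (Dplus.{u} a).ι U.ι (𝟙 _) (by simp) (by simp)
  have : IsOpenImmersion j := inferInstanceAs (IsOpenImmersion (pullback.map _ _ _ _ _ _ _ _ _))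
  have hj : j.opensRange = toPZ n S ⁻¹ᵁ Dplus a ⊓ CohB1.ProjSpaceOver.toBase n S ⁻¹ᵁ U := by
    ext1
    refine (Scheme.Pullback.range_map ..).trans ?_
    simp only [Scheme.Opens.range_ι]
    rfl
  rw [← hj]
  exact isAffineOpen_opensRange j

/-- evaluation at the coordinates of the `a`-th piece -/
def evalA (a : Fin (n + 1)) (U : S.Opens) :
    MvPolynomial (Fin (n + 1)) Γ(S, U) →+* Γ(X, piece f q a U) :=
  MvPolynomial.eval₂Hom (f.appLE U (piece f q a U) inf_le_right).hom
    (fun j => coord q a j (piece_le f q a U))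

include hi hq in
/-- the sections over an affine piece are generated by the coordinates over the base -/
theorem evalA_surjective (a : Fin (n + 1)) {U : S.Opens} (hU : IsAffineOpen U) :
    Function.Surjective (evalA f q a U) := by
  classical
  have : IsAffine U.toScheme := hU
  have : IsAffine (piece f q a U).toScheme := isAffineOpen_piece f q i hi hq a hU
  let R := MvPolynomial (Fin (n + 1)) Γ(S, U)
  let O := toPZ n S ⁻¹ᵁ Dplus a ⊓ CohB1.ProjSpaceOver.toBase n S ⁻¹ᵁ U
  let g : (piece f q a U).toScheme ⟶ Spec (CommRingCat.of R) :=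
    toSpecOf ((piece f q a U).topIso.inv.hom.comp (evalA f q a U))
  let w : Fin (n + 1) → Γ(Spec (CommRingCat.of R), ⊤) := fun j =>
    (Scheme.ΓSpecIso (CommRingCat.of R)).inv (if j = a then 1 else MvPolynomial.X j)
  have hw : IsUnit (w a) := by simp [w]
  let b : Spec (CommRingCat.of R) ⟶ S :=
    Spec.map (CommRingCat.ofHom (MvPolynomial.C : Γ(S, U) →+* R)) ≫ hU.fromSpec
  let r : Spec (CommRingCat.of R) ⟶ CohB1.ProjSpaceOver n S := poLift (pt w a hw) b
  have hr : Set.range r ⊆ Set.range O.ι := by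
    rintro _ ⟨y, rfl⟩
    rw [Scheme.Opens.range_ι]
    refine ⟨?_, ?_⟩
    · change y ∈ (r ≫ toPZ n S) ⁻¹ᵁ Dplus a
      rw [poLift_toPZ, pt_preimage, Scheme.basicOpen_of_isUnit _ hw]
      trivial
    · change y ∈ (r ≫ CohB1.ProjSpaceOver.toBase n S) ⁻¹ᵁ U
      rw [poLift_toBase]
      exact hU.range_fromSpec.le ⟨_, rfl⟩
  let r' := IsOpenImmersion.lift O.ι r hr
  have hP := piece_eq_preimage f q i hi hq a U
  have key : g ≫ r' = (X.isoOfEq hP).hom ≫ (i ∣_ O) := by
    rw [← cancel_mono O.ι, Category.assoc, IsOpenImmersion.lift_fac, Category.assoc,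
      morphismRestrict_ι, Scheme.isoOfEq_hom_ι_assoc]
    apply po_ext
    · rw [Category.assoc, poLift_toPZ, Category.assoc, hq, comp_pt, ι_comp_q q a (piece_le f q a U)]
      congr 1
      funext j
      change ((g.appTop.hom.comp (Scheme.ΓSpecIso (CommRingCat.of R)).inv.hom)
        (if j = a then 1 else MvPolynomial.X j)) = _
      rw [show g.appTop.hom.comp (Scheme.ΓSpecIso (CommRingCat.of R)).inv.hom =
        (piece f q a U).topIso.inv.hom.comp (evalA f q a U) from
        ChowLib.toSpecOf_injective (by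
          simp [g, toSpecOf, ← Scheme.toSpecΓ_naturality_assoc])]
      by_cases hja : j = a
      · subst hja; simp [coord_self]
      · simp only [hja, if_false, RingHom.comp_apply, evalA]
        exact congrArg _ (MvPolynomial.eval₂Hom_X' _ _ _)
    · rw [Category.assoc, poLift_toBase, Category.assoc, hi]
      have hC : (evalA f q a U).comp MvPolynomial.C =
          (f.appLE U (piece f q a U) inf_le_right).hom :=
        RingHom.ext fun x => by simp [evalA]
      have hb : g ≫ Spec.map (CommRingCat.ofHom (MvPolynomial.C : Γ(S, U) →+* R)) =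
          (piece f q a U).toSpecΓ ≫ Spec.map (f.appLE U (piece f q a U) inf_le_right) := by
        simp only [g, toSpecOf, Scheme.Opens.toSpecΓ, Category.assoc, ← Spec.map_comp]
        congr 2
        ext1
        rw [CommRingCat.hom_comp, CommRingCat.hom_comp, CommRingCat.hom_ofHom, CommRingCat.hom_ofHom,
          RingHom.comp_assoc, hC]
      rw [← Category.assoc g, hb, Category.assoc, Scheme.Opens.toSpecΓ_SpecMap_appLE_assoc,
        IsAffineOpen.toSpecΓ_fromSpec, Scheme.Hom.resLE_comp_ι]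
  have : IsSeparated r' := inferInstance
  have : IsClosedImmersion (g ≫ r') := by rw [key]; infer_instance
  have hg : IsClosedImmersion g := IsClosedImmersion.of_comp g r'
  have hs := ((HasAffineProperty.iff_of_isAffine (P := @IsClosedImmersion)).mp hg).2
  intro y
  obtain ⟨z, hz⟩ := hs ((piece f q a U).topIso.inv y)
  refine ⟨(Scheme.ΓSpecIso (CommRingCat.of R)).hom z, ?_⟩
  apply (ConcreteCategory.bijective_of_isIso (piece f q a U).topIso.inv).1
  rw [← hz]
  have e : g.appTop = (Scheme.ΓSpecIso (CommRingCat.of R)).hom ≫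
      CommRingCat.ofHom ((piece f q a U).topIso.inv.hom.comp (evalA f q a U)) := by
    simp [g, toSpecOf, Scheme.toSpecΓ_appTop, Scheme.ΓSpecIso_naturality_assoc]
  rw [e]; rfl

end RelProjLib

end
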