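import Groth.Prelude.Def_RelProj
import Groth.Agent.ChowLib.SchDom
import Mathlib.AlgebraicGeometry.ProjectiveSpectrum.Proper
import Mathlib.AlgebraicGeometry.Morphisms.Proper
import Mathlib.RingTheory.MvPolynomial.Homogeneous
import Mathlib.Algebra.Ring.Subring.Basic

/-!
# Projective morphisms are proper

Over an affine open, `Proj` of an algebra generated in degree one by finitely many elements over the
base ring is a closed subscheme of projective space.
-/

set_option autoImplicit false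
universe u

open CategoryTheory CategoryTheory.Limits AlgebraicGeometry TopologicalSpace Opposite HomogeneousLocalization
open scoped HomogeneousIdeal

noncomputable section

namespace RelProjLib

/-- the grading of a polynomial ring -/
abbrev polyDeg (m : ℕ) (R : Type u) [CommRing R] : ℕ → Submodule R (MvPolynomial (Fin m) R) :=
  MvPolynomial.homogeneousSubmodule (Fin m) R

instance (m : ℕ) (R : Type u) [CommRing R] : GradedAlgebra (polyDeg m R) := MvPolynomial.gradedAlgebra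

lemma isProper_polyToSpec (m : ℕ) (R : Type u) [CommRing R] :
    IsProper (Proj.toSpecZero (polyDeg m R) ≫
      Spec.map (CommRingCat.ofHom (algebraMap R (polyDeg m R 0)))) := by
  haveI : IsScalarTower R (polyDeg m R 0) (MvPolynomial (Fin m) R) :=
    IsScalarTower.of_algebraMap_eq (R := R) (S := polyDeg m R 0) fun _ => rfl
  haveI : Algebra.FiniteType (polyDeg m R 0) (MvPolynomial (Fin m) R) :=
    Algebra.FiniteType.of_restrictScalars_finiteType R _ _
  have hb : Function.Bijective (algebraMap R (polyDeg m R 0)) := by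
    refine ⟨fun a b h => MvPolynomial.C_injective _ _ (congrArg Subtype.val h), fun p => ?_⟩
    obtain ⟨r, hr⟩ : ∃ r : R, MvPolynomial.C r = (p : MvPolynomial (Fin m) R) :=
      ⟨_, ((MvPolynomial.totalDegree_eq_zero_iff_eq_C).mp (Nat.le_zero.mp
        (MvPolynomial.IsHomogeneous.totalDegree_le p.2))).symm⟩
    exact ⟨r, Subtype.ext hr⟩
  haveI : IsIso (CommRingCat.ofHom (algebraMap R (polyDeg m R 0))) :=
    (ConcreteCategory.isIso_iff_bijective _).mpr hb
  haveI : IsProper (Proj.toSpecZero (polyDeg m R)) := inferInstance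
  infer_instance

variable {R A : Type u} [CommRing R] [CommRing A] (𝒜 : ℕ → AddSubgroup A) [GradedRing 𝒜]
  (ρ : R →+* A) (hρ : ∀ r, ρ r ∈ 𝒜 0) {m : ℕ} (t : Fin m → A) (ht : ∀ i, t i ∈ 𝒜 1)
  (hspan : ∀ x ∈ 𝒜 1, ∃ c : Fin m → R, x = ∑ i, ρ (c i) * t i)
  (hgen : Subring.closure ((𝒜 0 : Set A) ∪ (𝒜 1 : Set A)) = ⊤)

/-- the map from the polynomial ring -/
def ψ : polyDeg m R →+*ᵍ 𝒜 :=
  { MvPolynomial.eval₂Hom ρ t with
    map_mem := fun {d p} hp => by
      classical
      change MvPolynomial.eval₂ ρ t p ∈ 𝒜 d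
      rw [MvPolynomial.eval₂_eq]
      refine sum_mem fun e he => ?_
      have hdeg : ∑ j ∈ e.support, e j = d := by
        have := hp (MvPolynomial.mem_support_iff.mp he)
        simpa [Finsupp.weight_apply, Finsupp.sum] using this
      have hprod : ∀ s : Finset (Fin m), ∏ j ∈ s, t j ^ e j ∈ 𝒜 (∑ j ∈ s, e j) := by
        intro s
        induction s using Finset.induction with
        | empty => simpa using SetLike.GradedOne.one_mem
        | insert j s hj ih =>
          rw [Finset.prod_insert hj, Finset.sum_insert hj]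
          refine SetLike.mul_mem_graded ?_ ih
          simpa using SetLike.pow_mem_graded (e j) (ht j)
      have := SetLike.mul_mem_graded (hρ (p.coeff e)) (hprod e.support)
      rwa [zero_add, hdeg] at this }

lemma ψ_X (i : Fin m) : ψ 𝒜 ρ hρ t ht (MvPolynomial.X i) = t i := MvPolynomial.eval₂Hom_X' _ _ _

lemma ψ_C (r : R) : ψ 𝒜 ρ hρ t ht (MvPolynomial.C r) = ρ r := MvPolynomial.eval₂Hom_C _ _ _

include hspan hgen in
lemma decomp (x : A) : ∃ a₀ ∈ 𝒜 0, ∃ p : MvPolynomial (Fin m) R,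
    p.constantCoeff = 0 ∧ x = a₀ + ψ 𝒜 ρ hρ t ht p := by
  have hmul0 : ∀ a₀ ∈ 𝒜 0, ∀ p : MvPolynomial (Fin m) R, p.constantCoeff = 0 →
      ∃ p' : MvPolynomial (Fin m) R, p'.constantCoeff = 0 ∧
        a₀ * ψ 𝒜 ρ hρ t ht p = ψ 𝒜 ρ hρ t ht p' := by
    intro a₀ ha₀ p
    induction p using MvPolynomial.induction_on'' with
    | C r =>
      intro hr
      rw [MvPolynomial.constantCoeff_C] at hr
      exact ⟨0, map_zero _, by simp [hr]⟩
    | monomial_add e b p he hb hp hm =>
      intro h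
      have h0 : MvPolynomial.constantCoeff (MvPolynomial.monomial e b) = 0 := by
        classical
        rw [MvPolynomial.constantCoeff_monomial]
        split_ifs with h'
        · subst h'
          rw [map_add, MvPolynomial.constantCoeff_monomial, if_pos rfl] at h
          have : p.constantCoeff = 0 := MvPolynomial.notMem_support_iff.mp he
          rwa [this, add_zero] at h
        · rfl
      rw [map_add, h0, zero_add] at h
      obtain ⟨p₁, hp₁, e₁⟩ := hm h0
      obtain ⟨p₂, hp₂, e₂⟩ := hp h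
      exact ⟨p₁ + p₂, by rw [map_add, hp₁, hp₂, add_zero], by rw [map_add, map_add, mul_add, e₁, e₂]⟩
    | mul_X q j hq =>
      intro _
      obtain ⟨c, hc⟩ := hspan (a₀ * t j) (by simpa using SetLike.mul_mem_graded ha₀ (ht j))
      refine ⟨q * ∑ i, MvPolynomial.C (c i) * MvPolynomial.X i, by simp, ?_⟩
      simp only [map_mul, map_sum, ψ_X, ψ_C, ← hc]
      ring
  have hx : x ∈ Subring.closure ((𝒜 0 : Set A) ∪ (𝒜 1 : Set A)) := hgen ▸ trivial
  induction hx using Subring.closure_induction with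
  | mem y hy =>
    rcases hy with hy | hy
    · exact ⟨y, hy, 0, map_zero _, by simp⟩
    · obtain ⟨c, hc⟩ := hspan y hy
      exact ⟨0, zero_mem _, ∑ i, MvPolynomial.C (c i) * MvPolynomial.X i, by simp,
        by simp [map_sum, ψ_X, ψ_C, hc]⟩
  | zero => exact ⟨0, zero_mem _, 0, map_zero _, by simp⟩
  | one => exact ⟨1, SetLike.GradedOne.one_mem, 0, map_zero _, by simp⟩
  | add y z _ _ hy hz =>
    obtain ⟨a, ha, p, hp, rfl⟩ := hy
    obtain ⟨b, hb, q, hq, rfl⟩ := hz
    exact ⟨a + b, add_mem ha hb, p + q, by simp [hp, hq], by rw [map_add]; ring⟩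
  | neg y _ hy =>
    obtain ⟨a, ha, p, hp, rfl⟩ := hy
    exact ⟨-a, neg_mem ha, -p, by simp [hp], by rw [map_neg]; ring⟩
  | mul y z _ _ hy hz =>
    obtain ⟨a, ha, p, hp, rfl⟩ := hy
    obtain ⟨b, hb, q, hq, rfl⟩ := hz
    obtain ⟨p', hp', ep⟩ := hmul0 b hb p hp
    obtain ⟨q', hq', eq'⟩ := hmul0 a ha q hq
    refine ⟨a * b, by simpa using SetLike.mul_mem_graded ha hb, p' + q' + p * q,
      by simp [hp', hq', hp], ?_⟩
    rw [map_add, map_add, map_mul, ← ep, ← eq']
    ring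

include hspan hgen in
lemma exists_of_mem {d : ℕ} (hd : 0 < d) {x : A} (hx : x ∈ 𝒜 d) :
    ∃ p ∈ polyDeg m R d, ψ 𝒜 ρ hρ t ht p = x := by
  classical
  obtain ⟨a₀, ha₀, p, -, e⟩ := decomp 𝒜 ρ hρ t ht hspan hgen x
  refine ⟨(DirectSum.decompose (polyDeg m R) p d : MvPolynomial (Fin m) R), SetLike.coe_mem _, ?_⟩
  rw [GradedRingHom.map_directSumDecompose]
  have h := congrArg (fun z => (DirectSum.decompose 𝒜 z d : A)) e
  simp only [DirectSum.decompose_add, DirectSum.add_apply, AddMemClass.coe_add,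
    DirectSum.decompose_of_mem_same 𝒜 hx, DirectSum.decompose_of_mem_ne 𝒜 ha₀ hd.ne, zero_add] at h
  exact h.symm

include hspan hgen in
lemma irrelevant_le : 𝒜₊ ≤ (polyDeg m R)₊.map (ψ 𝒜 ρ hρ t ht) := by
  rw [HomogeneousIdeal.irrelevant_le]
  intro d hd x hx
  obtain ⟨p, hp, rfl⟩ := exists_of_mem 𝒜 ρ hρ t ht hspan hgen hd hx
  exact Ideal.mem_map_of_mem _ (HomogeneousIdeal.mem_irrelevant_of_mem _ hd hp)

include hspan hgen in
lemma away_map_surjective (i : Fin m) :
    Function.Surjective (Away.map (ψ 𝒜 ρ hρ t ht) (MvPolynomial.X i)) := by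
  intro z
  have hX : ψ 𝒜 ρ hρ t ht (MvPolynomial.X i) ∈ 𝒜 1 := by rw [ψ_X]; exact ht i
  obtain ⟨k, a, ha, rfl⟩ := Away.mk_surjective _ hX z
  obtain ⟨p, hp, e⟩ := exists_of_mem 𝒜 ρ hρ t ht hspan hgen k.succ_pos
    (x := a * ψ 𝒜 ρ hρ t ht (MvPolynomial.X i))
    (by simpa using SetLike.mul_mem_graded ha hX)
  refine ⟨Away.mk _ (MvPolynomial.isHomogeneous_X R i) (k + 1) p (by simpa using hp), ?_⟩
  rw [Away.map_mk]
  apply HomogeneousLocalization.val_injective
  rw [Away.val_mk, Away.val_mk, Localization.mk_eq_mk_iff, Localization.r_iff_exists]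
  refine ⟨1, ?_⟩
  simp only [OneMemClass.coe_one, one_mul, e]
  ring

lemma iSup_X : ⨆ i, Proj.basicOpen (polyDeg m R) (MvPolynomial.X i) = ⊤ := by
  refine Proj.iSup_basicOpen_eq_top' (polyDeg m R) _
    (fun i => ⟨1, MvPolynomial.isHomogeneous_X R i⟩) ?_
  rw [eq_top_iff]
  rintro p -
  induction p using MvPolynomial.induction_on with
  | C a =>
    exact Subalgebra.algebraMap_mem (Algebra.adjoin (polyDeg m R 0) _)
      (⟨MvPolynomial.C a, MvPolynomial.isHomogeneous_C _ a⟩ : polyDeg m R 0)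
  | add p q hp hq => exact add_mem hp hq
  | mul_X p j hp => exact mul_mem hp (Algebra.subset_adjoin ⟨j, rfl⟩)

include hspan hgen in
theorem isClosedImmersion_map :
    IsClosedImmersion (Proj.map (ψ 𝒜 ρ hρ t ht) (irrelevant_le 𝒜 ρ hρ t ht hspan hgen)) := by
  refine IsZariskiLocalAtTarget.of_iSup_eq_top (P := @IsClosedImmersion)
    (fun i => Proj.basicOpen (polyDeg m R) (MvPolynomial.X i)) iSup_X fun i => ?_
  have hX := MvPolynomial.isHomogeneous_X R i
  have : IsClosedImmersion (Spec.map (CommRingCat.ofHom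
      (Away.map (ψ 𝒜 ρ hρ t ht) (MvPolynomial.X i)))) :=
    IsClosedImmersion.spec_of_surjective _ (away_map_surjective 𝒜 ρ hρ t ht hspan hgen i)
  refine ChowLib.restrict_of_isPullback (P := @IsClosedImmersion)
    (g := Spec.map (CommRingCat.ofHom (Away.map (ψ 𝒜 ρ hρ t ht) (MvPolynomial.X i))) ≫
      (Proj.basicOpenIsoSpec (polyDeg m R) (MvPolynomial.X i) hX one_pos).inv)
    (iU := Proj.awayι 𝒜 (ψ 𝒜 ρ hρ t ht (MvPolynomial.X i))
      ((ψ 𝒜 ρ hρ t ht).map_mem hX) one_pos) ?_ inferInstance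
  refine IsOpenImmersion.isPullback _ _ _ _ ?_ ?_
  · rw [Category.assoc, Proj.basicOpenIsoSpec_inv_ι]
    exact Proj.awayι_comp_map _ _ one_pos _ hX
  · rw [Scheme.Opens.opensRange_ι, Proj.opensRange_awayι, Proj.map_preimage_basicOpen]

/-- the structure map of the base into degree zero -/
def ρ₀ : R →+* 𝒜 0 where
  toFun r := ⟨ρ r, hρ r⟩
  map_one' := Subtype.ext (map_one ρ)
  map_mul' x y := Subtype.ext (map_mul ρ x y)
  map_zero' := Subtype.ext (map_zero ρ)
  map_add' x y := Subtype.ext (map_add ρ x y)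

include ht hspan hgen in
theorem isProper_proj : IsProper (Proj.toSpecZero 𝒜 ≫ Spec.map (CommRingCat.ofHom (ρ₀ 𝒜 ρ hρ))) := by
  have := isClosedImmersion_map 𝒜 ρ hρ t ht hspan hgen
  have := isProper_polyToSpec m R
  suffices h : Proj.toSpecZero 𝒜 ≫ Spec.map (CommRingCat.ofHom (ρ₀ 𝒜 ρ hρ)) =
      Proj.map (ψ 𝒜 ρ hρ t ht) (irrelevant_le 𝒜 ρ hρ t ht hspan hgen) ≫
        Proj.toSpecZero (polyDeg m R) ≫
          Spec.map (CommRingCat.ofHom (algebraMap R (polyDeg m R 0))) by
    rw [h]; infer_instance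
  have key : ∀ (d : ℕ) (hd : 0 < d) (s : MvPolynomial (Fin m) R) (hs : s ∈ polyDeg m R d),
      Proj.awayι 𝒜 (ψ 𝒜 ρ hρ t ht s) ((ψ 𝒜 ρ hρ t ht).map_mem hs) hd ≫
        Proj.toSpecZero 𝒜 ≫ Spec.map (CommRingCat.ofHom (ρ₀ 𝒜 ρ hρ)) =
      Proj.awayι 𝒜 (ψ 𝒜 ρ hρ t ht s) ((ψ 𝒜 ρ hρ t ht).map_mem hs) hd ≫
        Proj.map (ψ 𝒜 ρ hρ t ht) (irrelevant_le 𝒜 ρ hρ t ht hspan hgen) ≫
          Proj.toSpecZero (polyDeg m R) ≫
            Spec.map (CommRingCat.ofHom (algebraMap R (polyDeg m R 0))) := by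
    intro d hd s hs
    rw [Proj.awayι_toSpecZero_assoc, Proj.awayι_comp_map_assoc _ _ hd _ hs,
      Proj.awayι_toSpecZero_assoc, ← Spec.map_comp, ← Spec.map_comp, ← Spec.map_comp]
    congr 1
    refine CommRingCat.hom_ext (RingHom.ext fun r => ?_)
    apply HomogeneousLocalization.val_injective
    change _ = (Away.map (ψ 𝒜 ρ hρ t ht) _ (fromZeroRingHom (polyDeg m R) _
      (algebraMap R (polyDeg m R 0) r))).val
    simp only [CommRingCat.hom_comp, CommRingCat.hom_ofHom, RingHom.comp_apply, fromZeroRingHom,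
      RingHom.coe_mk, MonoidHom.coe_mk, OneHom.coe_mk, ρ₀, Away.map, map_mk, val_mk]
    rw [Localization.mk_eq_mk_iff, Localization.r_iff_exists]
    refine ⟨1, ?_⟩
    simp [← MvPolynomial.algebraMap_eq, ψ, MvPolynomial.algebraMap_eq]
  refine (Proj.mapAffineOpenCover (ψ 𝒜 ρ hρ t ht)
    (irrelevant_le 𝒜 ρ hρ t ht hspan hgen)).openCover.hom_ext _ _ fun s => ?_
  simp only [Scheme.AffineOpenCover.openCover_f, Proj.mapAffineOpenCover_f]
  exact key s.1.1 s.1.2 _ s.2.2

variable {X S : Scheme.{u}}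

/-- projective morphisms are proper -/
theorem isProper_of_isProjective {f : X ⟶ S} (hf : RelProj.IsProjective f) : IsProper f := by
  obtain ⟨𝒮, P, p, chart, e, hgen, hft, hP, rfl⟩ := hf
  suffices IsProper p by infer_instance
  refine IsZariskiLocalAtTarget.of_iSup_eq_top (P := @IsProper) (fun U : S.affineOpens => U.1)
    (iSup_affineOpens_eq_top S) fun U => ?_
  obtain ⟨T, hT, hTspan⟩ := hft U.1 U.2
  let t : Fin T.card → 𝒮.presheaf.obj (op U.1) := fun i => (T.equivFin.symm i).1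
  have := isProper_proj (𝒮.deg U.1 U.2) (𝒮.str.app (op U.1)).hom (𝒮.str_mem U.1 U.2) t
    (fun i => hT (T.equivFin.symm i).2) (fun x hx => ?_) (hgen U.1 U.2)
  · have h : (p ∣_ U.1) ≫ U.2.isoSpec.hom = (chart U.1 U.2).hom ≫ Proj.toSpecZero (𝒮.deg U.1 U.2) ≫
        Spec.map (CommRingCat.ofHom (ρ₀ (𝒮.deg U.1 U.2) (𝒮.str.app (op U.1)).hom (𝒮.str_mem U.1 U.2))) := by
      rw [← cancel_mono U.2.fromSpec]
      simp only [Category.assoc, IsAffineOpen.isoSpec_hom_fromSpec, IsAffineOpen.toSpecΓ_fromSpec]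
      rw [morphismRestrict_ι]
      exact (hP.chart_over U.1 U.2).symm
    have h2 : IsProper ((p ∣_ U.1) ≫ U.2.isoSpec.hom) := by rw [h]; infer_instance
    exact (MorphismProperty.cancel_right_of_respectsIso @IsProper _ U.2.isoSpec.hom).mp h2
  · obtain ⟨c, hc⟩ := hTspan x hx
    refine ⟨fun i => c (t i), hc.trans ?_⟩
    rw [← Finset.sum_coe_sort]
    exact (Equiv.sum_comp T.equivFin.symm (fun y => (𝒮.str.app (op U.1)).hom (c y.1) * y.1)).symm

end RelProjLib

end
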