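import Groth.Agent.RelProjLib.Chart

/-!
# A closed subscheme of `P^n_S` is projective over `S`
-/

set_option autoImplicit false
universe u

open CategoryTheory CategoryTheory.Limits AlgebraicGeometry TopologicalSpace Opposite
open ChowLib

noncomputable section

namespace RelProjLib

variable {X S : Scheme.{u}} {n : ℕ} (f : X ⟶ S) (q : X ⟶ PZ.{u} n)
variable (i : X ⟶ CohB1.ProjSpaceOver n S) [IsClosedImmersion i]
  (hi : i ≫ CohB1.ProjSpaceOver.toBase n S = f) (hq : i ≫ toPZ n S = q)
variable {U : S.Opens} (hU : IsAffineOpen U)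

/-- the structure map into degree zero -/
def strDeg (U : S.Opens) : Γ(S, U) →+* deg f q U 0 where
  toFun r := ⟨algStr f q U r, fun a k hk => by
    rw [algStr_coe, ambStr_apply, PowerSeries.coeff_C, if_neg hk]⟩
  map_one' := Subtype.ext (map_one _)
  map_mul' x y := Subtype.ext (map_mul _ x y)
  map_zero' := Subtype.ext (map_zero _)
  map_add' x y := Subtype.ext (map_add _ x y)

lemma chartHom_over [GradedRing (deg f q U)] :
    chartHom f q i hi hq hU ≫ Proj.toSpecZero (deg f q U) ≫
      Spec.map (CommRingCat.ofHom (strDeg f q U)) ≫ hU.fromSpec = (f ⁻¹ᵁ U).ι ≫ f := by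
  refine (pieceCover f q U).hom_ext _ _ fun a => ?_
  change X.homOfLE (piece_le_preimage f q a U) ≫ chartHom f q i hi hq hU ≫ _ =
    X.homOfLE (piece_le_preimage f q a U) ≫ (f ⁻¹ᵁ U).ι ≫ f
  rw [← Category.assoc, homOfLE_chartHom, Scheme.homOfLE_ι_assoc, chartA,
    ← Category.assoc (ptG _ _ _ _ _), ptG_toSpecZero, toSpecOf, Category.assoc, ← Spec.map_comp_assoc,
    ← CommRingCat.ofHom_comp]
  have h : ((φ f q i hi hq hU a).comp (algebraMap (deg f q U 0) (alg f q U))).comp (strDeg f q U) =
      (f.appLE U (piece f q a U) inf_le_right ≫ (piece f q a U).topIso.inv).hom := by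
    refine RingHom.ext fun r => ?_
    rw [CommRingCat.hom_comp, RingHom.comp_apply, RingHom.comp_apply, RingHom.comp_apply]
    change φ f q i hi hq hU a (algStr f q U r) = _
    rw [φ, RingHom.comp_apply, ev_str]
  rw [h, CommRingCat.ofHom_hom, Spec.map_comp, Category.assoc, ← Category.assoc (Scheme.toSpecΓ _)]
  refine (Scheme.Opens.toSpecΓ_SpecMap_appLE_assoc f U _ (piece_le_preimage f q a U) _).trans ?_
  rw [IsAffineOpen.toSpecΓ_fromSpec, Scheme.Hom.resLE_comp_ι]

lemma chartHom_res {V : S.Opens} (hV : IsAffineOpen V) (h : V ≤ U) [GradedRing (deg f q U)]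
    [GradedRing (deg f q V)] (ψ : deg f q U →+*ᵍ deg f q V)
    (hψ : ∀ s, ψ s = algRes f q h s)
    (hirr : HomogeneousIdeal.irrelevant (deg f q V) ≤
      (HomogeneousIdeal.irrelevant (deg f q U)).map ψ) :
    X.homOfLE (f.preimage_mono h) ≫ chartHom f q i hi hq hU =
      chartHom f q i hi hq hV ≫ Proj.map ψ hirr := by
  refine (pieceCover f q V).hom_ext _ _ fun a => ?_
  change X.homOfLE (piece_le_preimage f q a V) ≫ X.homOfLE (f.preimage_mono h) ≫ chartHom f q i hi hq hU =
    X.homOfLE (piece_le_preimage f q a V) ≫ chartHom f q i hi hq hV ≫ Proj.map ψ hirr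
  rw [← Category.assoc, ← Category.assoc, homOfLE_chartHom, Scheme.homOfLE_homOfLE,
    ← Scheme.homOfLE_homOfLE X (piece_mono f q a h) (piece_le_preimage f q a U), Category.assoc,
    homOfLE_chartHom, chartA, comp_ptG, chartA]
  have hT : ψ (T f q a U) = T f q a V := by
    rw [hψ, T, T]
    exact Subtype.ext ((ambRes_Φ f q h _).trans (by rw [MvPolynomial.map_X]; rfl))
  have hcomp : (φ f q i hi hq hV a).comp (ψ : alg f q U →+* alg f q V) =
      (X.homOfLE (piece_mono f q a h)).appTop.hom.comp (φ f q i hi hq hU a) := by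
    refine RingHom.ext fun s => ?_
    rw [homOfLE_comp_φ]
    change φ f q i hi hq hV a (ψ s) = _
    rw [hψ, φ, RingHom.comp_apply, ev_res f q i hi hq hU hV h a s]
    rfl
  have hu : IsUnit (φ f q i hi hq hV a (ψ (T f q a U))) := by
    rw [hT]; exact isUnit_φ_T f q i hi hq hV a
  have hu' : IsUnit (((φ f q i hi hq hV a).comp (ψ : alg f q U →+* alg f q V)) (T f q a U)) := hu
  rw [ptG_change (deg f q V) (φ f q i hi hq hV a) (T_mem f q a V) one_pos _
    (ψ.map_mem (T_mem f q a U)) one_pos hu,
    ptG_map (deg f q U) ψ hirr (φ f q i hi hq hV a) (T_mem f q a U) one_pos hu hu']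
  congr 1
  exact hcomp.symm

include hi in
/-- a closed subscheme of `P^n_S` is projective -/
theorem isProjective_of_closedImmersion : RelProj.IsProjective f := by
  let 𝒮 := coordAlg f (i ≫ toPZ n S) i hi rfl
  refine ⟨𝒮, X, f, fun U hU => letI := gradedRing f (i ≫ toPZ n S) i hi rfl hU
      chartIso f (i ≫ toPZ n S) i hi rfl hU, Iso.refl X, coordAlg_isGenDegOne f _ i hi rfl,
    coordAlg_isFTDeg f _ i hi rfl, ⟨fun U hU => ?_, fun U hU r => ?_⟩, Category.id_comp f⟩
  · letI := gradedRing f (i ≫ toPZ n S) i hi rfl hU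
    exact chartHom_over f (i ≫ toPZ n S) i hi rfl hU
  · letI := gradedRing f (i ≫ toPZ n S) i hi rfl hU
    letI := gradedRing f (i ≫ toPZ n S) i hi rfl (hU.basicOpen r)
    exact chartHom_res f (i ≫ toPZ n S) i hi rfl hU (hU.basicOpen r) (S.basicOpen_le r) _
      (fun _ => rfl) _

/-- H-projective morphisms are projective -/
theorem isProjective_of_isHProjective (h : RelProj.IsHProjective f) : RelProj.IsProjective f := by
  obtain ⟨n, i, hi', hi⟩ := h
  exact isProjective_of_closedImmersion f i hi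

end RelProjLib

end
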