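import Groth.Agent.RelProjLib.ProjAffine
import Groth.Agent.RelProjLib.HProj

/-!
# Local projectivity
-/

set_option autoImplicit false
universe u

open CategoryTheory CategoryTheory.Limits AlgebraicGeometry TopologicalSpace Opposite

noncomputable section

namespace RelProjLib

/-- H-projectivity passes to any cartesian square -/
theorem isHProjective_of_isPullback {X Y X' Y' : Scheme.{u}} {f : X ⟶ Y} {g : Y' ⟶ Y} {f' : X' ⟶ Y'}
    {g' : X' ⟶ X} (h : IsPullback g' f' f g) (hf : RelProj.IsHProjective f) :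
    RelProj.IsHProjective f' := by
  rw [show f' = h.isoPullback.hom ≫ pullback.snd f g from (h.isoPullback_hom_snd).symm]
  exact isHProjective_iso_comp _ (AmpleLib.isHProjective_baseChange hf g)

variable {X S : Scheme.{u}}

/-- a projective morphism is H-projective over the affine opens -/
theorem isHProjective_restrict {f : X ⟶ S} (hf : RelProj.IsProjective f) {V : S.Opens}
    (hV : IsAffineOpen V) : RelProj.IsHProjective (f ∣_ V) := by
  obtain ⟨𝒮, P, p, chart, e, hgen, hft, hP, rfl⟩ := hf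
  rw [morphismRestrict_comp]
  refine isHProjective_iso_comp (asIso (e.hom ∣_ (p ⁻¹ᵁ V))) ?_
  have : IsAffine V.toScheme := hV
  obtain ⟨T, hT, hTspan⟩ := hft V hV
  let t : Fin (T.card + 1) → 𝒮.presheaf.obj (op V) :=
    Fin.cons 0 (fun i => (T.equivFin.symm i).1)
  have ht : ∀ i, t i ∈ 𝒮.deg V hV 1 :=
    Fin.cases (zero_mem _) (fun i => hT (T.equivFin.symm i).2)
  let ρ : Γ(V.toScheme, ⊤) →+* 𝒮.presheaf.obj (op V) :=
    (𝒮.str.app (op V)).hom.comp V.topIso.hom.hom
  have h := isHProjective_projBase (𝒮.deg V hV) ρ (fun r => 𝒮.str_mem V hV _) t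
    (fun x hx => by
      obtain ⟨c, hc⟩ := hTspan x hx
      refine ⟨fun i => V.topIso.inv (c (t i)), hc.trans ?_⟩
      have hiso : ∀ r, ρ (V.topIso.inv r) = (𝒮.str.app (op V)).hom r := fun r =>
        congrArg (𝒮.str.app (op V)).hom
          ((CommRingCat.comp_apply _ _ _).symm.trans (by rw [Iso.inv_hom_id]; rfl))
      simp only [hiso]
      rw [Fin.sum_univ_succ, ← Finset.sum_coe_sort]
      simp only [t, Fin.cons_zero, Fin.cons_succ, mul_zero, zero_add]
      exact (Equiv.sum_comp T.equivFin.symm (fun y => (𝒮.str.app (op V)).hom (c y.1) * y.1)).symm)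
    (hgen V hV) ht
  have hp : p ∣_ V = (chart V hV).hom ≫ projBase (𝒮.deg V hV) ρ (fun r => 𝒮.str_mem V hV _) := by
    rw [← cancel_mono V.ι, morphismRestrict_ι, ← hP.chart_over V hV]
    simp only [projBase, Category.assoc]
    have hρ : CommRingCat.ofHom (ρ₀ (𝒮.deg V hV) ρ (fun r => 𝒮.str_mem V hV _)) =
        V.topIso.hom ≫ 𝒮.strZero V hV := rfl
    rw [hρ, Spec.map_comp, Category.assoc]
    rw [IsAffineOpen.fromSpec_top]
    simp [IsAffineOpen.fromSpec, IsAffineOpen.isoSpec, Scheme.Opens.topIso]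
  rw [hp]
  exact isHProjective_iso_comp (chart V hV) h

theorem isLocallyProjective_iff {f : X ⟶ S} :
    RelProj.IsLocallyProjective f ↔ ∀ s : S, ∃ U : S.Opens, s ∈ U ∧ RelProj.IsHProjective (f ∣_ U) := by
  refine ⟨fun h s => ?_, fun h s => ?_⟩
  · obtain ⟨U, hs, hU⟩ := h s
    obtain ⟨V, hV, hsV, hVU⟩ := exists_isAffineOpen_mem_and_subset (x := s) (U := U) hs
    have hV' : IsAffineOpen (U.ι ⁻¹ᵁ V) := by
      refine hV.preimage_of_isOpenImmersion U.ι ?_
      rw [Scheme.Opens.opensRange_ι]; exact hVU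
    have hsq : IsPullback (X.homOfLE (f.preimage_mono hVU)) (f ∣_ V) (f ∣_ U) (S.homOfLE hVU) := by
      refine IsPullback.of_right ?_ ?_ (isPullback_morphismRestrict f U).flip
      · rw [Scheme.homOfLE_ι, Scheme.homOfLE_ι]
        exact (isPullback_morphismRestrict f V).flip
      · rw [← cancel_mono U.ι]
        simp [morphismRestrict_ι]
    let W := U.ι ⁻¹ᵁ V
    have h1 := isHProjective_restrict hU hV'
    have hr : Set.range (S.homOfLE hVU) ⊆ Set.range W.ι := by
      rintro _ ⟨z, rfl⟩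
      rw [Scheme.Opens.range_ι]
      change U.ι (S.homOfLE hVU z) ∈ V
      rw [← Scheme.Hom.comp_apply, Scheme.homOfLE_ι]
      exact z.2
    let κ := IsOpenImmersion.lift W.ι (S.homOfLE hVU) hr
    have hκ : κ ≫ W.ι = S.homOfLE hVU := IsOpenImmersion.lift_fac _ _ _
    have hsq2 := hsq
    rw [← hκ] at hsq2
    let l := (isPullback_morphismRestrict (f ∣_ U) W).flip.lift (X.homOfLE (f.preimage_mono hVU))
      ((f ∣_ V) ≫ κ) (by rw [Category.assoc, hκ]; exact hsq.w)
    refine ⟨V, hsV, isHProjective_of_isPullback (g' := l) (g := κ) ?_ h1⟩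
    refine IsPullback.of_right ?_ (IsPullback.lift_snd ..) (isPullback_morphismRestrict (f ∣_ U) W).flip
    rw [IsPullback.lift_fst]
    exact hsq2
  · obtain ⟨U, hs, hU⟩ := h s
    exact ⟨U, hs, isProjective_of_isHProjective _ hU⟩

theorem isLocallyProjective_baseChange {S' : Scheme.{u}} {f : X ⟶ S}
    (hf : RelProj.IsLocallyProjective f) (g : S' ⟶ S) :
    RelProj.IsLocallyProjective (pullback.snd f g) := by
  intro s'
  obtain ⟨U, hs, hU⟩ := (isLocallyProjective_iff.mp hf) (g s')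
  refine ⟨g ⁻¹ᵁ U, hs, isProjective_of_isHProjective _ ?_⟩
  have h1 : IsPullback ((pullback.snd f g ⁻¹ᵁ (g ⁻¹ᵁ U)).ι ≫ pullback.fst f g)
      (pullback.snd f g ∣_ (g ⁻¹ᵁ U)) f ((g ∣_ U) ≫ U.ι) := by
    rw [morphismRestrict_ι]
    exact (isPullback_morphismRestrict _ _).flip.paste_horiz (IsPullback.of_hasPullback f g)
  let l := (isPullback_morphismRestrict f U).flip.lift
    ((pullback.snd f g ⁻¹ᵁ (g ⁻¹ᵁ U)).ι ≫ pullback.fst f g)
    ((pullback.snd f g ∣_ (g ⁻¹ᵁ U)) ≫ (g ∣_ U)) (by rw [Category.assoc]; exact h1.w)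
  refine isHProjective_of_isPullback (g' := l) (g := g ∣_ U) ?_ hU
  refine IsPullback.of_right ?_ (IsPullback.lift_snd ..) (isPullback_morphismRestrict f U).flip
  rw [IsPullback.lift_fst]
  exact h1

end RelProjLib

end
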