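import Groth.Agent.RelProjLib.ProjProper
import Groth.Agent.AmpleLib.HProjBasic
import Mathlib.RingTheory.MvPolynomial.Ideal

/-!
# A projective morphism to an affine scheme is H-projective
-/

set_option autoImplicit false
universe u

open CategoryTheory CategoryTheory.Limits AlgebraicGeometry TopologicalSpace Opposite HomogeneousLocalization
open scoped HomogeneousIdeal
open ChowLib

noncomputable section

namespace RelProjLib

lemma eval₂_scale' {A B : Type u} [CommRing A] [CommRing B] {σ : Type} (g : A →+* B) (v : σ → B) (c : B)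
    {k : ℕ} (P : MvPolynomial σ A) (hP : P.IsHomogeneous k) :
    MvPolynomial.eval₂ g (fun j => c * v j) P = c ^ k * MvPolynomial.eval₂ g v P := by
  classical
  simp only [MvPolynomial.eval₂_eq, Finset.mul_sum]
  refine Finset.sum_congr rfl fun d hd => ?_
  have hdk : ∑ j ∈ d.support, d j = k := by
    have := hP (MvPolynomial.mem_support_iff.mp hd)
    simpa [Finsupp.weight_apply, Finsupp.sum] using this
  simp only [mul_pow, Finset.prod_mul_distrib, Finset.prod_pow_eq_pow_sum, hdk]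
  ring

/-- a morphism into a standard chart, as a point -/
lemma toSpecOf_chart {Y : Scheme.{u}} {n : ℕ} (a : Fin (n + 1))
    (φ : Away (gr.{u} n) (MvPolynomial.X a : MvPolynomial (Fin (n + 1)) Z.{u}) →+* Γ(Y, ⊤)) :
    ∃ hu, toSpecOf φ ≫ chart a = pt (fun j => φ (coordRing a j)) a hu := by
  have h1 : φ (coordRing a a) = 1 := by
    rw [show coordRing.{u} a a = 1 from HomogeneousLocalization.val_injective _ (by
      simp [coordRing, Localization.mk_eq_mk']), map_one]
  refine ⟨by rw [h1]; exact isUnit_one, ?_⟩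
  rw [pt]
  congr 2
  refine away_hom_ext fun j => ?_
  have := awayEval_coord (fun j => φ (coordRing a j)) a j (by simp [h1])
  simpa [h1] using this.symm

variable {S : Scheme.{u}} [IsAffine S] {A : Type u} [CommRing A] (𝒜 : ℕ → AddSubgroup A) [GradedRing 𝒜]
  (ρ : Γ(S, ⊤) →+* A) (hρ : ∀ r, ρ r ∈ 𝒜 0) {m : ℕ} (t : Fin (m + 1) → A) (ht : ∀ i, t i ∈ 𝒜 1)
  (hspan : ∀ x ∈ 𝒜 1, ∃ c : Fin (m + 1) → Γ(S, ⊤), x = ∑ i, ρ (c i) * t i)
  (hgen : Subring.closure ((𝒜 0 : Set A) ∪ (𝒜 1 : Set A)) = ⊤)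

/-- the map from the integral polynomial ring -/
def ψZ : polyDeg (m + 1) Z.{u} →+*ᵍ 𝒜 :=
  ψ 𝒜 (intMap A) (fun r => by
    rw [show intMap A r = ρ (intMap _ r) from RingHom.congr_fun (intMap_unique _ (ρ.comp (intMap _))) r]
    exact hρ _) t ht

include hspan hgen in
lemma irrelevant_le_Z : 𝒜₊ ≤ (polyDeg (m + 1) Z.{u})₊.map (ψZ 𝒜 ρ hρ t ht) := by
  rw [HomogeneousIdeal.irrelevant_le]
  intro d hd x hx
  obtain ⟨p, hp, rfl⟩ := exists_of_mem 𝒜 ρ hρ t ht hspan hgen hd hx
  change ψ 𝒜 ρ hρ t ht p ∈ Ideal.map (ψZ 𝒜 ρ hρ t ht) _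
  have hp' : p ∈ Ideal.span (MvPolynomial.X '' (Set.univ : Set (Fin (m + 1)))) := by
    rw [MvPolynomial.mem_ideal_span_X_image]
    intro e he
    by_contra hne
    push_neg at hne
    have hz : e = 0 := Finsupp.ext fun i => hne i trivial
    have := hp (MvPolynomial.mem_support_iff.mp he)
    simp [hz] at this
    omega
  have hle : Ideal.span (MvPolynomial.X '' (Set.univ : Set (Fin (m + 1)))) ≤
      (Ideal.map (ψZ 𝒜 ρ hρ t ht) (HomogeneousIdeal.irrelevant (polyDeg (m + 1) Z.{u})).toIdeal).comap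
        (ψ 𝒜 ρ hρ t ht : MvPolynomial (Fin (m + 1)) Γ(S, ⊤) →+* A) := by
    rw [Ideal.span_le]
    rintro _ ⟨i, -, rfl⟩
    refine Ideal.mem_comap.mpr ?_
    change ψ 𝒜 ρ hρ t ht (MvPolynomial.X i) ∈ _
    rw [ψ_X, ← show ψZ 𝒜 ρ hρ t ht (MvPolynomial.X i) = t i from ψ_X _ _ _ _ _ i]
    exact Ideal.mem_map_of_mem _ (HomogeneousIdeal.mem_irrelevant_of_mem _ one_pos
      (MvPolynomial.isHomogeneous_X _ i))
  exact hle hp'

/-- the structure map to the base -/
def projBase : Proj 𝒜 ⟶ S :=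
  Proj.toSpecZero 𝒜 ≫ Spec.map (CommRingCat.ofHom (ρ₀ 𝒜 ρ hρ)) ≫ (isAffineOpen_top S).fromSpec

/-- the map to projective space over the base -/
def toPO : Proj 𝒜 ⟶ CohB1.ProjSpaceOver m S :=
  poLift (Proj.map (ψZ 𝒜 ρ hρ t ht) (irrelevant_le_Z 𝒜 ρ hρ t ht hspan hgen)) (projBase 𝒜 ρ hρ)

lemma appTop_of_fromSpec {Y : Scheme.{u}} (φ : Γ(S, ⊤) →+* Γ(Y, ⊤)) :
    (toSpecOf φ ≫ (isAffineOpen_top S).fromSpec).appTop = CommRingCat.ofHom φ := by
  apply CommRingCat.hom_ext
  rw [CommRingCat.hom_ofHom]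
  apply toSpecOf_injective
  change Y.toSpecΓ ≫ Spec.map _ = _
  rw [CommRingCat.ofHom_hom, ← Scheme.toSpecΓ_naturality, Category.assoc, IsAffineOpen.fromSpec_top,
    ← Scheme.isoSpec_hom, Iso.inv_hom_id, Category.comp_id]

theorem isClosedImmersion_toPO : IsClosedImmersion (toPO 𝒜 ρ hρ t ht hspan hgen) := by
  let p := CohB1.ProjSpaceOver.toBase m S
  let π := toPZ m S
  let k := toPO 𝒜 ρ hρ t ht hspan hgen
  refine IsZariskiLocalAtTarget.of_iSup_eq_top (P := @IsClosedImmersion)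
    (fun a => piece p π a ⊤) (by rw [iSup_piece]; rfl) fun a => ?_
  let ψ' := ψZ 𝒜 ρ hρ t ht
  have hX := MvPolynomial.isHomogeneous_X Z.{u} a
  let tt := ψ' (MvPolynomial.X a)
  have htt : tt = t a := ψ_X _ _ _ _ _ a
  have httm : tt ∈ 𝒜 1 := ψ'.map_mem hX
  let Ya := Spec (CommRingCat.of (Away 𝒜 tt))
  let ia : Ya ⟶ Proj 𝒜 := Proj.awayι 𝒜 tt httm one_pos
  let k' := ia ≫ k
  let γ : Away 𝒜 tt →+* Γ(Ya, ⊤) := (Scheme.ΓSpecIso (CommRingCat.of (Away 𝒜 tt))).inv.hom
  have hγ : ∀ {B : Type u} [CommRing B] (g : B →+* Away 𝒜 tt),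
      Spec.map (CommRingCat.ofHom g) = toSpecOf (γ.comp g) := fun g => by
    rw [toSpecOf, CommRingCat.ofHom_comp, Spec.map_comp, ← Category.assoc, ← SpecMap_ΓSpecIso_hom,
      ← Spec.map_comp]
    rw [show CommRingCat.ofHom γ ≫ (Scheme.ΓSpecIso (CommRingCat.of (Away 𝒜 tt))).hom = 𝟙 _ from
      Iso.inv_hom_id _, Spec.map_id]
    exact (Category.id_comp _).symm
  have hq : k' ≫ π = toSpecOf (γ.comp (Away.map ψ' (MvPolynomial.X a))) ≫ chart a := by
    rw [← hγ]
    simp only [k', k, π, toPO, Category.assoc, poLift_toPZ]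
    exact Proj.awayι_comp_map _ _ one_pos _ hX
  obtain ⟨hu, hpt⟩ := toSpecOf_chart a (γ.comp (Away.map ψ' (MvPolynomial.X a)))
  have hb : k' ≫ p = toSpecOf (γ.comp ((fromZeroRingHom 𝒜 (Submonoid.powers tt)).comp (ρ₀ 𝒜 ρ hρ))) ≫
      (isAffineOpen_top S).fromSpec := by
    rw [← hγ]
    simp only [k', k, p, toPO, Category.assoc, poLift_toBase, projBase]
    change Proj.awayι 𝒜 tt httm one_pos ≫ _ = _
    rw [Proj.awayι_toSpecZero_assoc, CommRingCat.ofHom_comp, Spec.map_comp, Category.assoc]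
  have hpre : (k' ≫ π) ⁻¹ᵁ Dplus a = ⊤ := by
    rw [hq, hpt, pt_preimage, Scheme.basicOpen_of_isUnit _ hu]
  have hle : (⊤ : Ya.Opens) ≤ k' ⁻¹ᵁ piece p π a ⊤ :=
    fun z _ => ⟨(hpre.ge (Set.mem_univ z) : z ∈ (k' ≫ π) ⁻¹ᵁ Dplus a), trivial⟩
  have hr : Set.range k' ⊆ Set.range (piece p π a ⊤).ι := by
    rintro _ ⟨z, rfl⟩
    rw [Scheme.Opens.range_ι]
    exact hle (Set.mem_univ z)
  let g := IsOpenImmersion.lift (piece p π a ⊤).ι k' hr
  have hg : g ≫ (piece p π a ⊤).ι = k' := IsOpenImmersion.lift_fac _ _ _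
  have hA : IsAffineOpen (piece p π a ⊤) :=
    isAffineOpen_piece p π (𝟙 _) (Category.id_comp _) (Category.id_comp _) a (isAffineOpen_top S)
  have : IsAffine (piece p π a ⊤).toScheme := hA
  -- the ring map on the chart
  let Θ : Γ(CohB1.ProjSpaceOver m S, piece p π a ⊤) →+* Γ(Ya, ⊤) := (k'.appLE _ ⊤ hle).hom
  have hval : ∀ P : MvPolynomial (Fin (m + 1)) Γ(S, ⊤),
      (((Scheme.ΓSpecIso (CommRingCat.of (Away 𝒜 tt))).hom (Θ (evalA p π a ⊤ P)) : Away 𝒜 tt)).val =
      MvPolynomial.eval₂ ((algebraMap A (Localization.Away tt)).comp ρ)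
        (fun j => Localization.mk 1 ⟨tt, Submonoid.mem_powers tt⟩ * algebraMap A (Localization.Away tt) (t j)) P := by
    refine fun P => RingHom.congr_fun (f := ((algebraMap (Away 𝒜 tt) (Localization.Away tt)).comp
      ((Scheme.ΓSpecIso (CommRingCat.of (Away 𝒜 tt))).hom.hom.comp (Θ.comp (evalA p π a ⊤)))))
      (g := MvPolynomial.eval₂Hom ((algebraMap A (Localization.Away tt)).comp ρ)
        (fun j => Localization.mk 1 ⟨tt, Submonoid.mem_powers tt⟩ * algebraMap A (Localization.Away tt) (t j))) ?_ P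
    refine MvPolynomial.ringHom_ext (fun r => ?_) (fun j => ?_)
    · have e : Θ (evalA p π a ⊤ (MvPolynomial.C r)) =
          γ ((fromZeroRingHom 𝒜 (Submonoid.powers tt)) (ρ₀ 𝒜 ρ hρ r)) := by
        simp only [Θ, evalA, MvPolynomial.eval₂Hom_C]
        rw [← CommRingCat.comp_apply, Scheme.Hom.appLE_comp_appLE]
        have e2 : (k' ≫ p).appLE ⊤ ⊤ le_top = (k' ≫ p).appTop := by
          simp [Scheme.Hom.appLE, Scheme.Hom.appTop]
        rw [e2, hb, appTop_of_fromSpec]
        rfl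
      simp only [RingHom.comp_apply, MvPolynomial.eval₂Hom_C, e, γ]
      rw [← CommRingCat.comp_apply, Iso.inv_hom_id, CommRingCat.id_apply,
        HomogeneousLocalization.algebraMap_apply]
      simp [fromZeroRingHom, ρ₀, ← Localization.mk_one_eq_algebraMap]
      rfl
    · have e : Θ (evalA p π a ⊤ (MvPolynomial.X j)) =
          γ (Away.map ψ' (MvPolynomial.X a) (coordRing a j)) := by
        simp only [Θ, evalA, MvPolynomial.eval₂Hom_X']
        rw [AmpleLib.coord_comp k' π a j (piece_le p π a ⊤) hpre.ge hle]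
        have h1 := ι_comp_q (k' ≫ π) a (W := ⊤) hpre.ge
        have h0 : (⊤ : Ya.Opens).ι ≫ (k' ≫ π) =
            pt (fun j => (⊤ : Ya.Opens).ι.appTop ((γ.comp (Away.map ψ' (MvPolynomial.X a))) (coordRing a j)))
              a (hu.map (⊤ : Ya.Opens).ι.appTop.hom) := by
          rw [hq, hpt, comp_pt]
        have h2 := prop_of_pt_eq _ _ a a _ _ (h1.symm.trans h0) j
        have h3 : (γ.comp (Away.map ψ' (MvPolynomial.X a))) (coordRing a a) = 1 := by
          rw [show coordRing.{u} a a = 1 from HomogeneousLocalization.val_injective _ (by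
            simp [coordRing, Localization.mk_eq_mk']), map_one]
        simp only [coord_self, map_one, mul_one, h3] at h2
        apply (ConcreteCategory.bijective_of_isIso (⊤ : Ya.Opens).topIso.inv).1
        rw [h2]
        simp [Scheme.Opens.topIso_inv, Scheme.Hom.appTop]
        rfl
      simp only [RingHom.comp_apply, MvPolynomial.eval₂Hom_X', e, γ]
      rw [← CommRingCat.comp_apply, Iso.inv_hom_id, CommRingCat.id_apply,
        HomogeneousLocalization.algebraMap_apply, coordRing, Away.map_mk, Away.val_mk,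
        ← Localization.mk_one_eq_algebraMap, Localization.mk_mul]
      simp [tt, ψ', ψZ, ψ_X]
      congr 1
      exact (mul_one _).symm
  have hΘ : Function.Surjective Θ := by
    intro y
    obtain ⟨k₀, x, hx, hxy⟩ := Away.mk_surjective 𝒜 httm
      ((Scheme.ΓSpecIso (CommRingCat.of (Away 𝒜 tt))).hom y)
    obtain ⟨P, hP, hPx⟩ := exists_of_mem 𝒜 ρ hρ t ht hspan hgen k₀.succ_pos
      (x := x * tt) (by simpa using SetLike.mul_mem_graded hx httm)
    refine ⟨evalA p π a ⊤ P, ?_⟩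
    apply (ConcreteCategory.bijective_of_isIso (Scheme.ΓSpecIso (CommRingCat.of (Away 𝒜 tt))).hom).1
    rw [← hxy]
    apply HomogeneousLocalization.val_injective
    rw [hval, eval₂_scale' _ _ _ P hP, Away.val_mk]
    have e3 : MvPolynomial.eval₂ ((algebraMap A (Localization.Away tt)).comp ρ)
        (fun j => algebraMap A (Localization.Away tt) (t j)) P =
          algebraMap A (Localization.Away tt) (x * tt) := by
      rw [← hPx, ← Function.comp_def (algebraMap A (Localization.Away tt)) t,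
        ← MvPolynomial.eval₂_comp_left]
      rfl
    rw [e3, Localization.mk_pow, ← Localization.mk_one_eq_algebraMap, Localization.mk_mul,
      Localization.mk_eq_mk_iff, Localization.r_iff_exists]
    refine ⟨1, ?_⟩
    simp [pow_succ]
    ring
  have hg' : IsClosedImmersion g := by
    refine (HasAffineProperty.iff_of_isAffine (P := @IsClosedImmersion)).mpr ⟨inferInstance, ?_⟩
    intro y
    obtain ⟨x, hx⟩ := hΘ y
    refine ⟨(piece p π a ⊤).topIso.inv x, ?_⟩
    rw [← hx]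
    have e4 : k'.appLE (piece p π a ⊤) ⊤ hle = (piece p π a ⊤).topIso.inv ≫ g.appTop := by
      have h : k'.appLE (piece p π a ⊤) ⊤ hle =
          (g ≫ (piece p π a ⊤).ι).appLE (piece p π a ⊤) ⊤ (by rw [hg]; exact hle) := by
        congr 1 <;> first | exact hg.symm | skip
      rw [h, ← Scheme.Hom.appLE_comp_appLE g _ _ ⊤ ⊤ (by simp) le_top,
        Scheme.Opens.ι_appLE, Scheme.Opens.topIso_inv]
      simp [Scheme.Hom.appLE, Scheme.Hom.appTop]
      rfl
    exact (CommRingCat.comp_apply _ _ x).symm.trans (congrArg (fun φ => φ x) e4.symm)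
  refine restrict_of_isPullback (P := @IsClosedImmersion) (g := g) (iU := ia) ?_ hg'
  refine IsOpenImmersion.isPullback _ _ _ _ ?_ ?_
  · exact hg.symm
  · rw [Scheme.Opens.opensRange_ι, Proj.opensRange_awayι]
    change k ⁻¹ᵁ piece p π a ⊤ = _
    simp only [piece, Scheme.Hom.preimage_inf, Scheme.Hom.preimage_top, inf_top_eq]
    rw [← Scheme.Hom.comp_preimage]
    simp only [k, π, toPO, poLift_toPZ]
    exact Proj.map_preimage_basicOpen _ _ _

theorem isHProjective_projBase (hspan : ∀ x ∈ 𝒜 1, ∃ c : Fin (m + 1) → Γ(S, ⊤), x = ∑ i, ρ (c i) * t i)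
    (hgen : Subring.closure ((𝒜 0 : Set A) ∪ (𝒜 1 : Set A)) = ⊤) (ht : ∀ i, t i ∈ 𝒜 1) :
    RelProj.IsHProjective (projBase 𝒜 ρ hρ) :=
  ⟨m, toPO 𝒜 ρ hρ t ht hspan hgen, isClosedImmersion_toPO 𝒜 ρ hρ t ht hspan hgen,
    poLift_toBase _ _⟩

/-- H-projectivity is invariant under isomorphisms of the source -/
theorem isHProjective_iso_comp {X Y T : Scheme.{u}} (e : X ≅ Y) {g : Y ⟶ T} (h : RelProj.IsHProjective g) :
    RelProj.IsHProjective (e.hom ≫ g) := by
  obtain ⟨n, i, hi, hig⟩ := h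
  exact ⟨n, e.hom ≫ i, inferInstance, by rw [Category.assoc, hig]⟩

/-- projective over an affine base implies H-projective -/
theorem isHProjective_of_isProjective {X : Scheme.{u}} {f : X ⟶ S} (hf : RelProj.IsProjective f) :
    RelProj.IsHProjective f := by
  obtain ⟨𝒮, P, p, chart, e, hgen, hft, hP, rfl⟩ := hf
  refine isHProjective_iso_comp e ?_
  have hU := isAffineOpen_top S
  obtain ⟨T, hT, hTspan⟩ := hft ⊤ hU
  let t : Fin (T.card + 1) → 𝒮.presheaf.obj (op ⊤) :=
    Fin.cons 0 (fun i => (T.equivFin.symm i).1)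
  have ht : ∀ i, t i ∈ 𝒮.deg ⊤ hU 1 :=
    Fin.cases (zero_mem _) (fun i => hT (T.equivFin.symm i).2)
  have h := isHProjective_projBase (𝒮.deg ⊤ hU) (𝒮.str.app (op ⊤)).hom (𝒮.str_mem ⊤ hU) t
    (fun x hx => by
      obtain ⟨c, hc⟩ := hTspan x hx
      refine ⟨fun i => c (t i), hc.trans ?_⟩
      rw [Fin.sum_univ_succ, ← Finset.sum_coe_sort]
      simp only [t, Fin.cons_zero, Fin.cons_succ, mul_zero, zero_add]
      exact (Equiv.sum_comp T.equivFin.symm (fun y => (𝒮.str.app (op ⊤)).hom (c y.1) * y.1)).symm)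
    (hgen ⊤ hU) ht
  have h2 : p = (P.topIso).inv ≫ (chart ⊤ hU).hom ≫
      projBase (𝒮.deg ⊤ hU) (𝒮.str.app (op ⊤)).hom (𝒮.str_mem ⊤ hU) := by
    rw [Iso.eq_inv_comp]
    exact (hP.chart_over ⊤ hU).symm
  rw [h2]
  exact isHProjective_iso_comp P.topIso.symm (isHProjective_iso_comp (chart ⊤ hU) h)

end RelProjLib

end
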