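import Groth.Agent.RelProjLib.Coords
import Groth.Prelude.Def_RelProj
import Mathlib.RingTheory.PowerSeries.Basic
import Mathlib.RingTheory.MvPolynomial.Homogeneous
import Mathlib.Algebra.DirectSum.Decomposition
import Mathlib.Topology.Sheaves.SheafCondition.UniqueGluing

/-!
# The homogeneous coordinate algebra of a closed subscheme of `P^n_S`

Its sections over `W` are the families of power series with coefficients in the functions of the
pieces which are, locally on `W`, given by a polynomial in the homogeneous coordinates.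
-/

set_option autoImplicit false
universe u

open CategoryTheory CategoryTheory.Limits AlgebraicGeometry TopologicalSpace Opposite
open ChowLib

noncomputable section

namespace RelProjLib

variable {X S : Scheme.{u}} {n : ℕ} (f : X ⟶ S) (q : X ⟶ PZ.{u} n)

/-- the ambient ring over `W` -/
abbrev Amb (W : S.Opens) : Type u := (a : Fin (n + 1)) → PowerSeries Γ(X, piece f q a W)

/-- restriction of functions on a piece -/
def rPiece (a : Fin (n + 1)) {V W : S.Opens} (h : V ≤ W) :
    Γ(X, piece f q a W) →+* Γ(X, piece f q a V) :=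
  (X.presheaf.map (homOfLE (piece_mono f q a h)).op).hom

/-- restriction in the ambient rings -/
def ambRes {V W : S.Opens} (h : V ≤ W) : Amb f q W →+* Amb f q V :=
  Pi.ringHom fun a => (PowerSeries.map (rPiece f q a h)).comp
    (Pi.evalRingHom (fun a => PowerSeries Γ(X, piece f q a W)) a)

lemma rPiece_rPiece (a : Fin (n + 1)) {U V W : S.Opens} (h : V ≤ W) (h' : U ≤ V)
    (x : Γ(X, piece f q a W)) :
    rPiece f q a h' (rPiece f q a h x) = rPiece f q a (h'.trans h) x := by
  rw [rPiece, rPiece, rPiece, ← CommRingCat.comp_apply, ← Functor.map_comp]; rfl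

lemma rPiece_refl (a : Fin (n + 1)) (W : S.Opens) (x : Γ(X, piece f q a W)) :
    rPiece f q a (le_refl W) x = x := by
  rw [rPiece, show (homOfLE (piece_mono f q a (le_refl W))).op = 𝟙 _ from rfl,
    CategoryTheory.Functor.map_id]
  rfl

@[simp] lemma coeff_ambRes {V W : S.Opens} (h : V ≤ W) (s : Amb f q W) (a : Fin (n + 1)) (k : ℕ) :
    PowerSeries.coeff k (ambRes f q h s a) = rPiece f q a h (PowerSeries.coeff k (s a)) :=
  PowerSeries.coeff_map _ _ _

lemma amb_ext {W : S.Opens} {s t : Amb f q W}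
    (h : ∀ a k, PowerSeries.coeff k (s a) = PowerSeries.coeff k (t a)) : s = t :=
  funext fun a => PowerSeries.ext (h a)

lemma ambRes_ambRes {U V W : S.Opens} (h : V ≤ W) (h' : U ≤ V) (s : Amb f q W) :
    ambRes f q h' (ambRes f q h s) = ambRes f q (h'.trans h) s :=
  amb_ext f q fun a k => by simp [rPiece_rPiece]

lemma ambRes_refl {W : S.Opens} (s : Amb f q W) : ambRes f q (le_refl W) s = s :=
  amb_ext f q fun a k => by simp [rPiece_refl]

/-- sections of the structure sheaf in the ambient ring -/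
def ambStr (W : S.Opens) : Γ(S, W) →+* Amb f q W :=
  Pi.ringHom fun a => PowerSeries.C.comp (f.appLE W (piece f q a W) inf_le_right).hom

lemma ambStr_apply {W : S.Opens} (r : Γ(S, W)) (a : Fin (n + 1)) :
    ambStr f q W r a = PowerSeries.C ((f.appLE W (piece f q a W) inf_le_right).hom r) := rfl

/-- the polynomial ring maps to the ambient ring by `T_j ↦ (t · x_j / x_a)_a` -/
def Φ (W : S.Opens) : MvPolynomial (Fin (n + 1)) Γ(S, W) →+* Amb f q W :=
  MvPolynomial.eval₂Hom (ambStr f q W)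
    (fun j a => PowerSeries.C (coord q a j (piece_le f q a W)) * PowerSeries.X)

lemma ambRes_str {V W : S.Opens} (h : V ≤ W) (r : Γ(S, W)) :
    ambRes f q h (ambStr f q W r) = ambStr f q V (S.presheaf.map (homOfLE h).op r) := by
  refine amb_ext f q fun a k => ?_
  simp only [coeff_ambRes, ambStr_apply, PowerSeries.coeff_C]
  split_ifs
  · rw [rPiece, ← CommRingCat.comp_apply, ← CommRingCat.comp_apply, Scheme.Hom.appLE_map,
      Scheme.Hom.map_appLE]
  · exact map_zero _

lemma ambRes_Φ {V W : S.Opens} (h : V ≤ W) (P : MvPolynomial (Fin (n + 1)) Γ(S, W)) :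
    ambRes f q h (Φ f q W P) = Φ f q V (MvPolynomial.map (S.presheaf.map (homOfLE h).op).hom P) := by
  refine RingHom.congr_fun (f := (ambRes f q h).comp (Φ f q W))
    (g := (Φ f q V).comp (MvPolynomial.map (S.presheaf.map (homOfLE h).op).hom)) ?_ P
  refine MvPolynomial.ringHom_ext (fun r => ?_) (fun j => ?_)
  · simp [Φ, ambRes_str]
  · refine amb_ext f q fun a k => ?_
    simp only [RingHom.comp_apply, Φ, MvPolynomial.map_X, MvPolynomial.eval₂Hom_X', coeff_ambRes,
      PowerSeries.coeff_C_mul, map_mul, rPiece, coord_res, PowerSeries.coeff_X]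
    split_ifs <;> simp

lemma Φ_C {W : S.Opens} (r : Γ(S, W)) : Φ f q W (MvPolynomial.C r) = ambStr f q W r :=
  MvPolynomial.eval₂Hom_C _ _ _

lemma coeff_Φ {W : S.Opens} (P : MvPolynomial (Fin (n + 1)) Γ(S, W)) (a : Fin (n + 1)) (k : ℕ) :
    PowerSeries.coeff k (Φ f q W P a) = evalA f q a W (MvPolynomial.homogeneousComponent k P) := by
  classical
  induction P using MvPolynomial.induction_on' with
  | monomial d r =>
    have h : Φ f q W (MvPolynomial.monomial d r) a =
        PowerSeries.C ((f.appLE W (piece f q a W) inf_le_right).hom r *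
          d.prod fun j e => coord q a j (piece_le f q a W) ^ e) * PowerSeries.X ^ d.degree := by
      simp only [Φ, MvPolynomial.eval₂Hom_monomial, Pi.mul_apply, ambStr_apply, Finsupp.prod, Finset.prod_apply, Pi.pow_apply, mul_pow,
        Finset.prod_mul_distrib, map_mul, map_prod, map_pow, Finset.prod_pow_eq_pow_sum,
        Finsupp.degree_apply, mul_assoc]
    rw [h, PowerSeries.coeff_C_mul_X_pow]
    have hm : MvPolynomial.homogeneousComponent k (MvPolynomial.monomial d r) =
        if k = d.degree then MvPolynomial.monomial d r else 0 :=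
      MvPolynomial.homogeneousComponent_of_mem
        (MvPolynomial.isHomogeneous_monomial r (rfl : d.degree = d.degree))
    rw [hm]
    split_ifs with hk
    · simp [evalA, MvPolynomial.eval₂Hom_monomial]
    · simp
  | add p q' hp hq' => simp [hp, hq']

/-- the sections: locally given by polynomials -/
def alg (W : S.Opens) : Subring (Amb f q W) where
  carrier := {s | ∀ x ∈ W, ∃ (V : S.Opens) (h : V ≤ W), x ∈ V ∧ ambRes f q h s ∈ (Φ f q V).range}
  zero_mem' x hx := ⟨W, le_refl W, hx, by rw [map_zero]; exact zero_mem _⟩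
  one_mem' x hx := ⟨W, le_refl W, hx, by rw [map_one]; exact one_mem _⟩
  add_mem' := by
    intro s t hs ht x hx
    obtain ⟨V, hV, hxV, P, hP⟩ := hs x hx
    obtain ⟨V', hV', hxV', P', hP'⟩ := ht x hx
    refine ⟨V ⊓ V', inf_le_left.trans hV, ⟨hxV, hxV'⟩, ?_⟩
    rw [map_add, ← ambRes_ambRes f q hV inf_le_left, ← ambRes_ambRes f q hV' inf_le_right, ← hP,
      ← hP', ambRes_Φ, ambRes_Φ]
    exact add_mem ⟨_, rfl⟩ ⟨_, rfl⟩
  mul_mem' := by
    intro s t hs ht x hx
    obtain ⟨V, hV, hxV, P, hP⟩ := hs x hx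
    obtain ⟨V', hV', hxV', P', hP'⟩ := ht x hx
    refine ⟨V ⊓ V', inf_le_left.trans hV, ⟨hxV, hxV'⟩, ?_⟩
    rw [map_mul, ← ambRes_ambRes f q hV inf_le_left, ← ambRes_ambRes f q hV' inf_le_right, ← hP,
      ← hP', ambRes_Φ, ambRes_Φ]
    exact mul_mem ⟨_, rfl⟩ ⟨_, rfl⟩
  neg_mem' := by
    intro s hs x hx
    obtain ⟨V, hV, hxV, h⟩ := hs x hx
    exact ⟨V, hV, hxV, by rw [map_neg]; exact neg_mem h⟩

lemma Φ_mem (W : S.Opens) (P : MvPolynomial (Fin (n + 1)) Γ(S, W)) : Φ f q W P ∈ alg f q W :=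
  fun _ hx => ⟨W, le_refl W, hx, by rw [ambRes_refl]; exact ⟨P, rfl⟩⟩

lemma ambRes_mem {V W : S.Opens} (h : V ≤ W) {s : Amb f q W} (hs : s ∈ alg f q W) :
    ambRes f q h s ∈ alg f q V := by
  intro x hx
  obtain ⟨U, hU, hxU, P, hP⟩ := hs x (h hx)
  refine ⟨U ⊓ V, inf_le_right, ⟨hxU, hx⟩, ?_⟩
  rw [ambRes_ambRes, ← ambRes_ambRes f q hU inf_le_left, ← hP, ambRes_Φ]
  exact ⟨_, rfl⟩

/-- polynomials over a localization -/
lemma exists_C_pow_mul_eq_map {A B : Type u} [CommRing A] [CommRing B] [Algebra A B] (r : A)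
    [IsLocalization.Away r B] {σ : Type} (P : MvPolynomial σ B) :
    ∃ (m : ℕ) (P0 : MvPolynomial σ A),
      MvPolynomial.map (algebraMap A B) P0 = MvPolynomial.C (algebraMap A B (r ^ m)) * P := by
  induction P using MvPolynomial.induction_on with
  | C b =>
    obtain ⟨⟨a, _, m, rfl⟩, h⟩ := IsLocalization.surj (Submonoid.powers r) b
    exact ⟨m, MvPolynomial.C a, by rw [MvPolynomial.map_C, ← h, mul_comm, map_mul]⟩
  | add p q hp hq =>
    obtain ⟨m, P, hP⟩ := hp
    obtain ⟨m', Q, hQ⟩ := hq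
    refine ⟨m + m', MvPolynomial.C (r ^ m') * P + MvPolynomial.C (r ^ m) * Q, ?_⟩
    simp only [map_add, map_mul, MvPolynomial.map_C, hP, hQ, pow_add, map_mul]
    ring
  | mul_X p j hp =>
    obtain ⟨m, P, hP⟩ := hp
    exact ⟨m, P * MvPolynomial.X j, by rw [map_mul, hP, MvPolynomial.map_X, mul_assoc]⟩

variable (i : X ⟶ CohB1.ProjSpaceOver n S) [IsClosedImmersion i]
  (hi : i ≫ CohB1.ProjSpaceOver.toBase n S = f) (hq : i ≫ toPZ n S = q)

/-- degrees of `s` are below `N` -/
def DegLT {W : S.Opens} (s : Amb f q W) (N : ℕ) : Prop :=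
  ∀ a k, N ≤ k → PowerSeries.coeff k (s a) = 0

lemma degLT_Φ {W : S.Opens} (P : MvPolynomial (Fin (n + 1)) Γ(S, W)) :
    DegLT f q (Φ f q W P) (P.totalDegree + 1) := fun a k hk => by
  rw [coeff_Φ, MvPolynomial.homogeneousComponent_eq_zero _ _ (by omega), map_zero]

include hi hq in
/-- what restricts to zero is killed by a power -/
lemma exists_pow_mul_eq_zero {U : S.Opens} (hU : IsAffineOpen U) (r : Γ(S, U)) {s : Amb f q U} {N : ℕ}
    (hN : DegLT f q s N) (h : ambRes f q (S.basicOpen_le r) s = 0) :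
    ∃ m, ambStr f q U r ^ m * s = 0 := by
  classical
  have key : ∀ (a : Fin (n + 1)) (k : ℕ), ∃ m,
      (f.appLE U (piece f q a U) inf_le_right).hom r ^ m * PowerSeries.coeff k (s a) = 0 := by
    intro a k
    have hA := isAffineOpen_piece f q i hi hq a hU
    let t := (f.appLE U (piece f q a U) inf_le_right).hom r
    have hb : X.basicOpen t = piece f q a (S.basicOpen r) := by
      have e : t = X.presheaf.map (homOfLE inf_le_right).op (f.app U r) := rfl
      have e2 := Scheme.basicOpen_res X (f.app U r)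
        (homOfLE (inf_le_right : piece f q a U ≤ f ⁻¹ᵁ U)).op
      rw [← Scheme.preimage_basicOpen] at e2
      rw [e]
      refine e2.trans ?_
      change (q ⁻¹ᵁ Dplus a ⊓ f ⁻¹ᵁ U) ⊓ f ⁻¹ᵁ S.basicOpen r = q ⁻¹ᵁ Dplus a ⊓ f ⁻¹ᵁ S.basicOpen r
      rw [inf_assoc, inf_eq_right.mpr (f.preimage_mono (S.basicOpen_le r))]
    have hz : X.presheaf.map (homOfLE (X.basicOpen_le t)).op (PowerSeries.coeff k (s a)) = 0 := by
      have h0 : rPiece f q a (S.basicOpen_le r) (PowerSeries.coeff k (s a)) = 0 := by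
        rw [← coeff_ambRes, h]; simp
      have h1 := congrArg (X.presheaf.map (eqToHom hb).op) h0
      rw [rPiece, ← CommRingCat.comp_apply, ← Functor.map_comp, map_zero] at h1
      exact h1
    letI : Algebra Γ(X, piece f q a U) Γ(X, X.basicOpen t) :=
      (X.presheaf.map (homOfLE (X.basicOpen_le t)).op).hom.toAlgebra
    have : IsLocalization.Away t Γ(X, X.basicOpen t) := hA.isLocalization_basicOpen t
    obtain ⟨⟨_, m, rfl⟩, hm⟩ := IsLocalization.exists_of_eq (M := Submonoid.powers t)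
      (S := Γ(X, X.basicOpen t)) (x := PowerSeries.coeff k (s a)) (y := 0) (hz.trans (map_zero _).symm)
    exact ⟨m, by simpa using hm⟩
  choose m hm using key
  let M := (Finset.univ ×ˢ Finset.range N).sup fun p => m p.1 p.2
  refine ⟨M, amb_ext f q fun a k => ?_⟩
  rw [Pi.zero_apply, map_zero, Pi.mul_apply, Pi.pow_apply, ambStr_apply, ← map_pow,
    PowerSeries.coeff_C_mul]
  by_cases hk : N ≤ k
  · rw [hN a k hk, mul_zero]
  · obtain ⟨c, hc⟩ := Nat.exists_eq_add_of_le
      (Finset.le_sup (f := fun p : Fin (n + 1) × ℕ => m p.1 p.2)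
        (Finset.mem_product.mpr ⟨Finset.mem_univ a, Finset.mem_range.mpr (not_le.mp hk)⟩ :
          (a, k) ∈ (Finset.univ ×ˢ Finset.range N)))
    change _ ^ M * _ = _
    rw [show M = m a k + c from hc, pow_add, mul_right_comm, hm, zero_mul]

include hi hq in
/-- over an affine open the sections are the polynomials -/
theorem alg_eq_range {U : S.Opens} (hU : IsAffineOpen U) : alg f q U = (Φ f q U).range := by
  classical
  refine le_antisymm (fun s hs => ?_) fun _ ⟨P, hP⟩ => hP ▸ Φ_mem f q U P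
  -- bounded degree
  have hloc : ∀ x : U, ∃ (r : Γ(S, U)), x.1 ∈ S.basicOpen r ∧
      ∃ P, Φ f q (S.basicOpen r) P = ambRes f q (S.basicOpen_le r) s := by
    rintro ⟨x, hx⟩
    obtain ⟨V, hV, hxV, P, hP⟩ := hs x hx
    obtain ⟨r, hrV, hxr⟩ := hU.exists_basicOpen_le ⟨x, hxV⟩ hx
    exact ⟨r, hxr, MvPolynomial.map (S.presheaf.map (homOfLE hrV).op).hom P,
      by rw [← ambRes_Φ, hP, ambRes_ambRes]⟩
  choose r hxr P hP using hloc
  obtain ⟨t, ht⟩ := hU.isCompact.elim_finite_subcover (fun x : U => (S.basicOpen (r x) : Set S))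
    (fun x => (S.basicOpen (r x)).isOpen) (fun x hx => Set.mem_iUnion.mpr ⟨⟨x, hx⟩, hxr ⟨x, hx⟩⟩)
  let N := t.sup fun x => (P x).totalDegree + 1
  have hN : DegLT f q s N := by
    intro a k hk
    have hcov : piece f q a U ≤ ⨆ x : t, piece f q a (S.basicOpen (r x.1)) := by
      intro z hz
      obtain ⟨x, hx, hzx⟩ := Set.mem_iUnion₂.mp (ht hz.2)
      exact TopologicalSpace.Opens.mem_iSup.mpr ⟨⟨x, hx⟩, hz.1, hzx⟩
    refine X.sheaf.eq_of_locally_eq' (fun x : t => piece f q a (S.basicOpen (r x.1))) _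
      (fun x => homOfLE (piece_mono f q a (S.basicOpen_le _))) hcov _ _ fun x => ?_
    refine Eq.trans ?_ (map_zero _).symm
    change rPiece f q a (S.basicOpen_le _) _ = 0
    rw [← coeff_ambRes, ← hP]
    exact degLT_Φ f q (P x.1) a k
      ((Finset.le_sup (f := fun x => (P x).totalDegree + 1) x.2).trans hk)
  let I : Ideal Γ(S, U) :=
    { carrier := {c | ambStr f q U c * s ∈ (Φ f q U).range}
      zero_mem' := ⟨0, by simp⟩
      add_mem' := fun {c d} hc hd => by
        simp only [Set.mem_setOf_eq, map_add, add_mul] at *; exact add_mem hc hd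
      smul_mem' := fun c d hd => by
        simp only [Set.mem_setOf_eq, smul_eq_mul, map_mul, mul_assoc] at *
        exact mul_mem ⟨MvPolynomial.C c, Φ_C f q c⟩ hd }
  have hmem : ∀ x ∈ t, ∃ m, r x ^ m ∈ I := by
    intro x hx
    letI : Algebra Γ(S, U) Γ(S, S.basicOpen (r x)) :=
      (S.presheaf.map (homOfLE (S.basicOpen_le (r x))).op).hom.toAlgebra
    have : IsLocalization.Away (r x) Γ(S, S.basicOpen (r x)) := hU.isLocalization_basicOpen (r x)
    obtain ⟨m, P0, hP0⟩ := exists_C_pow_mul_eq_map (r x) (P x)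
    have hz : ambRes f q (S.basicOpen_le (r x)) (ambStr f q U (r x ^ m) * s - Φ f q U P0) = 0 := by
      rw [map_sub, map_mul, ambRes_str, ← hP, ambRes_Φ]
      erw [hP0]
      rw [map_mul, Φ_C]
      exact sub_self _
    have hd : DegLT f q (ambStr f q U (r x ^ m) * s - Φ f q U P0) (max N (P0.totalDegree + 1)) := by
      intro a k hk
      rw [Pi.sub_apply, map_sub, Pi.mul_apply, ambStr_apply, PowerSeries.coeff_C_mul, hN a k (le_of_max_le_left hk),
        degLT_Φ f q P0 a k (le_of_max_le_right hk), mul_zero, sub_zero]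
    obtain ⟨m', hm'⟩ := exists_pow_mul_eq_zero f q i hi hq hU (r x) hd hz
    refine ⟨m' + m, MvPolynomial.C (r x ^ m') * P0, ?_⟩
    rw [map_mul, Φ_C, map_pow, pow_add, map_mul, map_pow, mul_assoc]
    rw [mul_sub, sub_eq_zero, map_pow] at hm'
    simpa [map_pow] using hm'.symm
  suffices hI : I = ⊤ by
    have h1 : (1 : Γ(S, U)) ∈ I := by rw [hI]; trivial
    change ambStr f q U 1 * s ∈ (Φ f q U).range at h1
    rwa [map_one, one_mul] at h1
  have hspan : Ideal.span (r '' (↑t : Set ↥U)) = ⊤ := by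
    rw [← hU.self_le_iSup_basicOpen_iff]
    intro z hz
    obtain ⟨x, hx, hzx⟩ := Set.mem_iUnion₂.mp (ht hz)
    exact TopologicalSpace.Opens.mem_iSup.mpr ⟨⟨r x, x, hx, rfl⟩, hzx⟩
  rw [← Ideal.radical_eq_top, eq_top_iff, ← hspan, Ideal.span_le]
  rintro _ ⟨x, hx, rfl⟩
  exact hmem x hx

end RelProjLib

end
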