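import Groth.Agent.RelProjLib.GrAlg

/-!
# The charts: the preimage of an affine open is `Proj` of the coordinate algebra
-/

set_option autoImplicit false
universe u

open CategoryTheory CategoryTheory.Limits AlgebraicGeometry TopologicalSpace Opposite
open ChowLib

noncomputable section

namespace RelProjLib

lemma eval₂_scale {A B : Type u} [CommRing A] [CommRing B] {σ : Type} (g : A →+* B) (v : σ → B) (c : B)
    {k : ℕ} (P : MvPolynomial σ A) (hP : P.IsHomogeneous k) :
    MvPolynomial.eval₂ g (fun j => c * v j) P = c ^ k * MvPolynomial.eval₂ g v P := by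
  classical
  simp only [MvPolynomial.eval₂_eq, Finset.mul_sum]
  refine Finset.sum_congr rfl fun d hd => ?_
  have hdk : ∑ j ∈ d.support, d j = k := by
    have := hP (MvPolynomial.mem_support_iff.mp hd)
    simpa [Finsupp.weight_apply, Finsupp.sum] using this
  simp only [mul_pow, Finset.prod_mul_distrib, Finset.prod_pow_eq_pow_sum, hdk]
  ring

variable {X S : Scheme.{u}} {n : ℕ} (f : X ⟶ S) (q : X ⟶ PZ.{u} n)
variable (i : X ⟶ CohB1.ProjSpaceOver n S) [IsClosedImmersion i]
  (hi : i ≫ CohB1.ProjSpaceOver.toBase n S = f) (hq : i ≫ toPZ n S = q)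
variable {U : S.Opens} (hU : IsAffineOpen U)

lemma evalA_X {W : S.Opens} (a j : Fin (n + 1)) :
    evalA f q a W (MvPolynomial.X j) = coord q a j (piece_le f q a W) :=
  MvPolynomial.eval₂Hom_X' _ _ _

lemma evalA_C {W : S.Opens} (a : Fin (n + 1)) (r : Γ(S, W)) :
    evalA f q a W (MvPolynomial.C r) = (f.appLE W (piece f q a W) inf_le_right).hom r :=
  MvPolynomial.eval₂Hom_C _ _ _

lemma evalA_eq_zero {W : S.Opens} (a : Fin (n + 1)) {P : MvPolynomial (Fin (n + 1)) Γ(S, W)}
    (h : Φalg f q W P = 0) : evalA f q a W P = 0 := by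
  rw [← MvPolynomial.sum_homogeneousComponent P, map_sum]
  refine Finset.sum_eq_zero fun k _ => ?_
  rw [← coeff_Φ, ← Φalg_coe, h]
  simp

/-- dehomogenisation at the `a`-th coordinate -/
def ev (a : Fin (n + 1)) : alg f q U →+* Γ(X, piece f q a U) :=
  (Φalg f q U).liftOfSurjective (Φalg_surjective f q i hi hq hU)
    ⟨evalA f q a U, fun _ h => evalA_eq_zero f q a h⟩

lemma ev_Φ (a : Fin (n + 1)) (P : MvPolynomial (Fin (n + 1)) Γ(S, U)) :
    ev f q i hi hq hU a (Φalg f q U P) = evalA f q a U P :=
  RingHom.liftOfRightInverse_comp_apply _ _ _ _ P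

lemma ev_of_mem (a : Fin (n + 1)) {s : alg f q U} {d : ℕ} (hs : s ∈ deg f q U d) :
    ev f q i hi hq hU a s = PowerSeries.coeff d (s.1 a) := by
  obtain ⟨P, rfl⟩ := Φalg_surjective f q i hi hq hU s
  conv_lhs => rw [← eq_Φalg_component f q P hs, ev_Φ]
  rw [Φalg_coe, coeff_Φ]

/-- the coordinate `T_a` -/
def T (a : Fin (n + 1)) (W : S.Opens) : alg f q W := Φalg f q W (MvPolynomial.X a)

lemma T_mem (a : Fin (n + 1)) (W : S.Opens) : T f q a W ∈ deg f q W 1 :=
  Φalg_mem_deg f q (MvPolynomial.isHomogeneous_X _ a)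

lemma ev_T (a b : Fin (n + 1)) :
    ev f q i hi hq hU a (T f q b U) = coord q a b (piece_le f q a U) := by
  rw [T, ev_Φ, evalA_X]

lemma ev_str (a : Fin (n + 1)) (r : Γ(S, U)) :
    ev f q i hi hq hU a (algStr f q U r) = (f.appLE U (piece f q a U) inf_le_right).hom r := by
  rw [show algStr f q U r = Φalg f q U (MvPolynomial.C r) from Subtype.ext (Φ_C f q r).symm,
    ev_Φ, evalA_C]

lemma ev_res {V : S.Opens} (hV : IsAffineOpen V) (h : V ≤ U) (a : Fin (n + 1)) (s : alg f q U) :
    ev f q i hi hq hV a (algRes f q h s) = rPiece f q a h (ev f q i hi hq hU a s) := by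
  obtain ⟨P, rfl⟩ := Φalg_surjective f q i hi hq hU s
  rw [show algRes f q h (Φalg f q U P) =
    Φalg f q V (MvPolynomial.map (S.presheaf.map (homOfLE h).op).hom P) from
      Subtype.ext (ambRes_Φ f q h P), ev_Φ, ev_Φ]
  refine RingHom.congr_fun (f := (evalA f q a V).comp (MvPolynomial.map (S.presheaf.map (homOfLE h).op).hom))
    (g := (rPiece f q a h).comp (evalA f q a U)) ?_ P
  refine MvPolynomial.ringHom_ext (fun r => ?_) (fun j => ?_)
  · simp only [RingHom.comp_apply, MvPolynomial.map_C, evalA_C, rPiece]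
    rw [← CommRingCat.comp_apply, ← CommRingCat.comp_apply, Scheme.Hom.appLE_map,
      Scheme.Hom.map_appLE]
  · simp only [RingHom.comp_apply, MvPolynomial.map_X, evalA_X, rPiece]
    exact (coord_res q a j _ _).symm

/-- on overlaps the dehomogenisations differ by powers of the change of coordinate -/
lemma ev_overlap (a b : Fin (n + 1)) {W : X.Opens} (hWa : W ≤ piece f q a U) (hWb : W ≤ piece f q b U)
    {s : alg f q U} {d : ℕ} (hs : s ∈ deg f q U d) :
    X.presheaf.map (homOfLE hWb).op (ev f q i hi hq hU b s) =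
      coord q b a (hWb.trans (piece_le f q b U)) ^ d *
        X.presheaf.map (homOfLE hWa).op (ev f q i hi hq hU a s) := by
  obtain ⟨P, rfl⟩ := Φalg_surjective f q i hi hq hU s
  rw [← eq_Φalg_component f q P hs, ev_Φ, ev_Φ]
  set Q := MvPolynomial.homogeneousComponent d P
  have hQ : Q.IsHomogeneous d := MvPolynomial.homogeneousComponent_isHomogeneous d P
  simp only [evalA, MvPolynomial.coe_eval₂Hom, MvPolynomial.eval₂_comp_left]
  have e : ∀ c, ∀ (hWc : W ≤ piece f q c U),
      (X.presheaf.map (homOfLE hWc).op).hom.comp (f.appLE U (piece f q c U) inf_le_right).hom =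
        (f.appLE U W (hWc.trans inf_le_right)).hom := by
    intro c hWc
    rw [← CommRingCat.hom_comp, Scheme.Hom.appLE_map]
  rw [e b hWb, e a hWa, ← eval₂_scale _ _ _ Q hQ]
  congr 1
  funext j
  simp only [Function.comp_apply, coord_res]
  rw [coord_change q b a j (hWb.trans (piece_le f q b U)) (hWa.trans (piece_le f q a U)), mul_comm]

/-- evaluation as global functions of the piece -/
def φ (a : Fin (n + 1)) : alg f q U →+* Γ((piece f q a U).toScheme, ⊤) :=
  (piece f q a U).topIso.inv.hom.comp (ev f q i hi hq hU a)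

lemma φ_T (a : Fin (n + 1)) : φ f q i hi hq hU a (T f q a U) = 1 := by
  rw [φ, RingHom.comp_apply, ev_T, coord_self, map_one]

lemma isUnit_φ_T (a : Fin (n + 1)) : IsUnit (φ f q i hi hq hU a (T f q a U)) := by
  rw [φ_T]; exact isUnit_one

variable [GradedRing (deg f q U)]

/-- the `a`-th chart -/
def chartA (a : Fin (n + 1)) : (piece f q a U).toScheme ⟶ Proj (deg f q U) :=
  ptG (deg f q U) (φ f q i hi hq hU a) (T_mem f q a U) one_pos (isUnit_φ_T f q i hi hq hU a)

lemma homOfLE_comp_φ (a : Fin (n + 1)) {W : X.Opens} (hWa : W ≤ piece f q a U) :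
    (X.homOfLE hWa).appTop.hom.comp (φ f q i hi hq hU a) =
      W.topIso.inv.hom.comp ((X.presheaf.map (homOfLE hWa).op).hom.comp (ev f q i hi hq hU a)) := by
  rw [φ, ← RingHom.comp_assoc, ← RingHom.comp_assoc, ← CommRingCat.hom_comp, ← CommRingCat.hom_comp]
  congr 2
  simp only [Scheme.Opens.topIso_inv, Scheme.homOfLE_appTop]
  erw [← Functor.map_comp, ← Functor.map_comp]
  rfl

lemma chartA_overlap (a b : Fin (n + 1)) {W : X.Opens} (hWa : W ≤ piece f q a U)
    (hWb : W ≤ piece f q b U) :
    X.homOfLE hWa ≫ chartA f q i hi hq hU a = X.homOfLE hWb ≫ chartA f q i hi hq hU b := by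
  rw [chartA, chartA, comp_ptG, comp_ptG]
  have hu : IsUnit (((X.homOfLE hWb).appTop.hom.comp (φ f q i hi hq hU b)) (T f q a U)) := by
    rw [homOfLE_comp_φ]
    simp only [RingHom.comp_apply, ev_T, coord_res]
    exact (isUnit_coord q b a _ (hWa.trans (piece_le f q a U))).map _
  rw [ptG_change (deg f q U) ((X.homOfLE hWb).appTop.hom.comp (φ f q i hi hq hU b))
    (T_mem f q b U) one_pos _ (T_mem f q a U) one_pos hu]
  refine ptG_scale (deg f q U) _ _ (W.topIso.inv (coord q b a (hWb.trans (piece_le f q b U))))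
    (fun d s hs => ?_) _ _ _ _
  simp only [homOfLE_comp_φ, RingHom.comp_apply]
  rw [← map_pow, ← map_mul]
  exact congrArg _ (ev_overlap f q i hi hq hU a b hWa hWb hs)

lemma piece_le_preimage (f : X ⟶ S) (q : X ⟶ PZ.{u} n) (a : Fin (n + 1)) (U : S.Opens) :
    piece f q a U ≤ f ⁻¹ᵁ U := inf_le_right

lemma chartA_cocycle (a b : Fin (n + 1)) {P : Scheme.{u}} (u : P ⟶ (piece f q a U).toScheme)
    (v : P ⟶ (piece f q b U).toScheme) (h : u ≫ (piece f q a U).ι = v ≫ (piece f q b U).ι) :
    u ≫ chartA f q i hi hq hU a = v ≫ chartA f q i hi hq hU b := by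
  let j : P ⟶ X := u ≫ (piece f q a U).ι
  have hr : Set.range j ⊆ Set.range (piece f q a U ⊓ piece f q b U).ι := by
    rintro _ ⟨z, rfl⟩
    rw [Scheme.Opens.range_ι]
    refine ⟨(u z).2, ?_⟩
    change j z ∈ piece f q b U
    rw [show j = v ≫ (piece f q b U).ι from h]
    exact (v z).2
  let l := IsOpenImmersion.lift (piece f q a U ⊓ piece f q b U).ι j hr
  have hl : l ≫ (piece f q a U ⊓ piece f q b U).ι = j := IsOpenImmersion.lift_fac _ _ _
  have h1 : u = l ≫ X.homOfLE (inf_le_left : _ ≤ piece f q a U) := by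
    rw [← cancel_mono (piece f q a U).ι, Category.assoc, Scheme.homOfLE_ι, hl]
  have h2 : v = l ≫ X.homOfLE (inf_le_right : _ ≤ piece f q b U) := by
    rw [← cancel_mono (piece f q b U).ι, Category.assoc, Scheme.homOfLE_ι, hl]
    exact h.symm
  rw [h1, h2, Category.assoc, Category.assoc, chartA_overlap f q i hi hq hU a b]

/-- the covering of `f ⁻¹ U` by the pieces -/
def pieceCover (f : X ⟶ S) (q : X ⟶ PZ.{u} n) (U : S.Opens) :
    ((f ⁻¹ᵁ U : X.Opens) : Scheme.{u}).OpenCover :=
  Scheme.Cover.mkOfCovers (Fin (n + 1)) (fun a => (piece f q a U).toScheme)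
    (fun a => X.homOfLE (piece_le_preimage f q a U))
    (fun z => by
      have hz : z.1 ∈ ⨆ a, piece f q a U := by rw [iSup_piece]; exact z.2
      obtain ⟨a, ha⟩ := Opens.mem_iSup.mp hz
      refine ⟨a, ⟨z.1, ha⟩, Subtype.ext ?_⟩
      simp)
    (fun a => by infer_instance)

/-- the chart over `U` -/
def chartHom : ((f ⁻¹ᵁ U : X.Opens) : Scheme.{u}) ⟶ Proj (deg f q U) :=
  (pieceCover f q U).glueMorphisms (fun a => chartA f q i hi hq hU a) (fun a b =>
    chartA_cocycle f q i hi hq hU a b _ _ (by
      have := congrArg (· ≫ (f ⁻¹ᵁ U).ι) (pullback.condition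
        (f := (pieceCover f q U).f a) (g := (pieceCover f q U).f b))
      simp only [Category.assoc] at this
      refine Eq.trans ?_ (this.trans ?_)
      · exact congrArg (pullback.fst _ _ ≫ ·) (Scheme.homOfLE_ι X (piece_le_preimage f q a U)).symm
      · exact congrArg (pullback.snd _ _ ≫ ·) (Scheme.homOfLE_ι X (piece_le_preimage f q b U))))

lemma homOfLE_chartHom (a : Fin (n + 1)) :
    X.homOfLE (piece_le_preimage f q a U) ≫ chartHom f q i hi hq hU =
      chartA f q i hi hq hU a :=
  (pieceCover f q U).ι_glueMorphisms _ _ a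

lemma chartA_preimage (a b : Fin (n + 1)) :
    chartA f q i hi hq hU b ⁻¹ᵁ Proj.basicOpen (deg f q U) (T f q a U) =
      (piece f q b U).ι ⁻¹ᵁ piece f q a U := by
  rw [chartA, ptG_preimage (deg f q U) _ _ _ _ (T_mem f q a U) one_pos, φ, RingHom.comp_apply, ev_T,
    ← (piece f q b U).ι.preimage_image_eq ((piece f q b U).toScheme.basicOpen _),
    Scheme.Opens.ι_image_basicOpen_topIso_inv, basicOpen_coord]
  ext z
  have hz := z.2
  exact ⟨fun h => ⟨h.2, hz.2⟩, fun h => ⟨hz, h.1⟩⟩

lemma chartHom_preimage (a : Fin (n + 1)) :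
    chartHom f q i hi hq hU ⁻¹ᵁ Proj.basicOpen (deg f q U) (T f q a U) =
      (X.homOfLE (piece_le_preimage f q a U)).opensRange := by
  ext z
  obtain ⟨b, w, rfl⟩ := (pieceCover f q U).exists_eq z
  change w ∈ (X.homOfLE (piece_le_preimage f q b U) ≫ chartHom f q i hi hq hU) ⁻¹ᵁ
      Proj.basicOpen (deg f q U) (T f q a U) ↔ _
  rw [homOfLE_chartHom]
  erw [chartA_preimage f q i hi hq hU a b]
  constructor
  · intro h
    refine ⟨⟨w.1, h⟩, Subtype.ext ?_⟩
    exact (Scheme.homOfLE_apply (piece_le_preimage f q a U) ⟨w.1, h⟩).trans (Scheme.homOfLE_apply (piece_le_preimage f q b U) w).symm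
  · rintro ⟨v, hv⟩
    have h : v.1 = w.1 := by
      have h := congrArg Subtype.val hv
      exact (Scheme.homOfLE_apply (piece_le_preimage f q a U) v).symm.trans
        (h.trans (Scheme.homOfLE_apply (piece_le_preimage f q b U) w))
    change w.1 ∈ piece f q a U
    rw [← h]
    exact v.2

include i hi hq hU in
lemma iSup_basicOpen_T : ⨆ a, Proj.basicOpen (deg f q U) (T f q a U) = ⊤ := by
  refine Proj.iSup_basicOpen_eq_top' (deg f q U) _ (fun a => ⟨1, T_mem f q a U⟩) ?_
  rw [eq_top_iff]
  rintro s -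
  obtain ⟨P, rfl⟩ := Φalg_surjective f q i hi hq hU s
  induction P using MvPolynomial.induction_on with
  | C r =>
    exact Subalgebra.algebraMap_mem (Algebra.adjoin (deg f q U 0) _)
      (⟨_, Φalg_mem_deg f q (MvPolynomial.isHomogeneous_C _ r)⟩ : deg f q U 0)
  | add p q' hp hq' => rw [map_add]; exact add_mem hp hq'
  | mul_X p j hp => rw [map_mul]; exact mul_mem hp (Algebra.subset_adjoin ⟨j, rfl⟩)

lemma awayLift_bijective (a : Fin (n + 1)) :
    Function.Bijective (awayLift (deg f q U) (φ f q i hi hq hU a) (T f q a U)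
      (isUnit_φ_T f q i hi hq hU a)) := by
  classical
  have hmk : ∀ (k : ℕ) (s : alg f q U) (hs : s ∈ deg f q U (k • 1)),
      awayLift (deg f q U) (φ f q i hi hq hU a) (T f q a U) (isUnit_φ_T f q i hi hq hU a)
        (HomogeneousLocalization.Away.mk _ (T_mem f q a U) k s hs) = φ f q i hi hq hU a s := by
    intro k s hs
    have := awayLift_mk (deg f q U) (φ f q i hi hq hU a) (T_mem f q a U)
      (isUnit_φ_T f q i hi hq hU a) k s hs
    rwa [φ_T, one_pow, mul_one] at this
  constructor
  · rw [injective_iff_map_eq_zero]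
    intro z hz
    obtain ⟨k, s, hs, rfl⟩ := HomogeneousLocalization.Away.mk_surjective _ (T_mem f q a U) z
    rw [hmk] at hz
    have h0 : ev f q i hi hq hU a s = 0 := by
      apply (ConcreteCategory.bijective_of_isIso (piece f q a U).topIso.inv).1
      rw [map_zero]
      exact hz
    have hs' : s ∈ deg f q U k := by simpa using hs
    have key : ∀ b, ∃ m, coord q b a (piece_le f q b U) ^ m * PowerSeries.coeff k (s.1 b) = 0 := by
      intro b
      have hA := isAffineOpen_piece f q i hi hq b hU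
      let t := coord q b a (piece_le f q b U)
      letI : Algebra Γ(X, piece f q b U) Γ(X, X.basicOpen t) :=
        (X.presheaf.map (homOfLE (X.basicOpen_le t)).op).hom.toAlgebra
      have : IsLocalization.Away t Γ(X, X.basicOpen t) := hA.isLocalization_basicOpen t
      have hW : X.basicOpen t ≤ piece f q a U := by
        intro z hz
        have h := (basicOpen_coord q b a (piece_le f q b U)).le hz
        exact ⟨h.2, h.1.2⟩
      have hov := ev_overlap f q i hi hq hU a b hW (X.basicOpen_le t) hs'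
      rw [h0, map_zero, mul_zero, ev_of_mem f q i hi hq hU b hs'] at hov
      obtain ⟨⟨_, m, rfl⟩, hm⟩ := IsLocalization.exists_of_eq (M := Submonoid.powers t)
        (S := Γ(X, X.basicOpen t)) (x := PowerSeries.coeff k (s.1 b)) (y := 0)
        (hov.trans (map_zero _).symm)
      exact ⟨m, by simpa using hm⟩
    choose m hm using key
    let M := Finset.univ.sup m
    have hT : T f q a U ^ M * s = 0 := by
      refine Subtype.ext (amb_ext f q fun b j => ?_)
      have hdeg : T f q a U ^ M * s ∈ deg f q U (M + k) := by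
        have := deg_mul_mem f q U (SetLike.pow_mem_graded M (T_mem f q a U)) hs'
        simpa using this
      by_cases hj : j = M + k
      · subst hj
        rw [← ev_of_mem f q i hi hq hU b hdeg, map_mul, map_pow, ev_T,
          ev_of_mem f q i hi hq hU b hs']
        obtain ⟨c, hc⟩ := Nat.exists_eq_add_of_le (Finset.le_sup (f := m) (Finset.mem_univ b))
        rw [show M = m b + c from hc, pow_add, mul_right_comm, hm, zero_mul]
        simp
      · rw [hdeg b j hj]; simp
    apply HomogeneousLocalization.val_injective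
    rw [HomogeneousLocalization.Away.val_mk, HomogeneousLocalization.val_zero,
      Localization.mk_eq_mk', IsLocalization.mk'_eq_zero_iff]
    exact ⟨⟨_, M, rfl⟩, hT⟩
  · intro y
    obtain ⟨P, hP⟩ := evalA_surjective f q i hi hq a hU ((piece f q a U).topIso.hom y)
    have hy : (piece f q a U).topIso.inv (evalA f q a U P) = y := by
      rw [hP, ← CommRingCat.comp_apply, Iso.hom_inv_id]; rfl
    rw [← hy]
    clear hy hP
    induction P using MvPolynomial.induction_on with
    | C r =>
      refine ⟨HomogeneousLocalization.Away.mk _ (T_mem f q a U) 0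
        (Φalg f q U (MvPolynomial.C r))
        (by simpa using Φalg_mem_deg f q (MvPolynomial.isHomogeneous_C _ r)), ?_⟩
      rw [hmk, φ, RingHom.comp_apply, ev_Φ]
    | add p q' hp hq' =>
      obtain ⟨x, hx⟩ := hp
      obtain ⟨x', hx'⟩ := hq'
      exact ⟨x + x', by rw [map_add, map_add, map_add, hx, hx']⟩
    | mul_X p j hp =>
      obtain ⟨x, hx⟩ := hp
      refine ⟨x * HomogeneousLocalization.Away.mk _ (T_mem f q a U) 1 (T f q j U)
        (by simpa using T_mem f q j U), ?_⟩
      rw [map_mul, map_mul, map_mul, hx, hmk, φ, RingHom.comp_apply, ev_T, evalA_X]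

theorem isIso_chartHom : IsIso (chartHom f q i hi hq hU) := by
  refine IsZariskiLocalAtTarget.of_iSup_eq_top (P := MorphismProperty.isomorphisms Scheme)
    (fun a => Proj.basicOpen (deg f q U) (T f q a U)) (iSup_basicOpen_T f q i hi hq hU) fun a => ?_
  have hA : IsAffine (piece f q a U).toScheme := isAffineOpen_piece f q i hi hq a hU
  let g : (piece f q a U).toScheme ⟶ Spec (CommRingCat.of _) :=
    toSpecOf (awayLift (deg f q U) (φ f q i hi hq hU a) (T f q a U) (isUnit_φ_T f q i hi hq hU a))
  have : IsIso (CommRingCat.ofHom (awayLift (deg f q U) (φ f q i hi hq hU a) (T f q a U)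
      (isUnit_φ_T f q i hi hq hU a))) :=
    (ConcreteCategory.isIso_iff_bijective _).mpr (awayLift_bijective f q i hi hq hU a)
  have hg : IsIso g := by
    change IsIso ((piece f q a U).toScheme.toSpecΓ ≫ Spec.map _)
    infer_instance
  refine restrict_of_isPullback (P := MorphismProperty.isomorphisms Scheme)
    (g := g ≫ (Proj.basicOpenIsoSpec (deg f q U) (T f q a U) (T_mem f q a U) one_pos).inv)
    (iU := X.homOfLE (piece_le_preimage f q a U)) ?_ (by
      change IsIso _; infer_instance)
  refine IsOpenImmersion.isPullback _ _ _ _ ?_ ?_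
  · rw [homOfLE_chartHom, Category.assoc, Proj.basicOpenIsoSpec_inv_ι]
    rfl
  · rw [Scheme.Opens.opensRange_ι]
    exact chartHom_preimage f q i hi hq hU a

/-- the chart as an isomorphism -/
def chartIso : ((f ⁻¹ᵁ U : X.Opens) : Scheme.{u}) ≅ Proj (deg f q U) :=
  @asIso _ _ _ _ (chartHom f q i hi hq hU) (isIso_chartHom f q i hi hq hU)

end RelProjLib

end
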