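import Groth.Agent.RelProjLib.Algebra

/-!
# The homogeneous coordinate algebra is a quasi-coherent graded algebra
-/

set_option autoImplicit false
universe u

open CategoryTheory CategoryTheory.Limits AlgebraicGeometry TopologicalSpace Opposite
open ChowLib

noncomputable section

namespace RelProjLib

variable {X S : Scheme.{u}} {n : ℕ} (f : X ⟶ S) (q : X ⟶ PZ.{u} n)

/-- restriction of sections -/
def algRes {V W : S.Opens} (h : V ≤ W) : alg f q W →+* alg f q V :=
  ((ambRes f q h).comp (alg f q W).subtype).codRestrict _ fun s => ambRes_mem f q h s.2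

@[simp] lemma algRes_coe {V W : S.Opens} (h : V ≤ W) (s : alg f q W) :
    (algRes f q h s : Amb f q V) = ambRes f q h s := rfl

/-- the presheaf -/
def algPresheaf : TopCat.Presheaf CommRingCat.{u} S.carrier where
  obj W := CommRingCat.of (alg f q W.unop)
  map {W V} h := CommRingCat.ofHom (algRes f q h.unop.le)
  map_id W := by
    refine CommRingCat.hom_ext (RingHom.ext fun s => Subtype.ext ?_)
    exact ambRes_refl f q _
  map_comp g h := by
    refine CommRingCat.hom_ext (RingHom.ext fun s => Subtype.ext ?_)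
    exact (ambRes_ambRes f q _ _ _).symm

/-- the structure map, valued in the sections -/
def algStr (W : S.Opens) : Γ(S, W) →+* alg f q W :=
  (ambStr f q W).codRestrict _ fun r => by rw [← Φ_C]; exact Φ_mem f q W _

@[simp] lemma algStr_coe {W : S.Opens} (r : Γ(S, W)) :
    (algStr f q W r : Amb f q W) = ambStr f q W r := rfl

/-- the structure map -/
def algStrHom : S.presheaf ⟶ algPresheaf f q where
  app W := CommRingCat.ofHom (algStr f q W.unop)
  naturality W V h := by
    refine CommRingCat.hom_ext (RingHom.ext fun r => Subtype.ext ?_)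
    exact (ambRes_str f q h.unop.le r).symm

theorem algPresheaf_isSheaf : (algPresheaf f q).IsSheaf := by
  rw [TopCat.Presheaf.isSheaf_iff_isSheafUniqueGluing]
  intro ι U sf cpt
  have hc : ∀ (a : Fin (n + 1)) (k : ℕ), ∃! c : Γ(X, piece f q a (iSup U)), ∀ i,
      rPiece f q a (le_iSup U i) c = PowerSeries.coeff k ((sf i).1 a) := by
    intro a k
    refine X.sheaf.existsUnique_gluing' (fun i => piece f q a (U i)) _
      (fun i => homOfLE (piece_mono f q a (le_iSup U i))) ?_ _ ?_
    · intro z hz
      obtain ⟨i, hi⟩ := Opens.mem_iSup.mp (show f z ∈ iSup U from hz.2)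
      exact Opens.mem_iSup.mpr ⟨i, hz.1, hi⟩
    · intro i j
      have hV : piece f q a (U i) ⊓ piece f q a (U j) = piece f q a (U i ⊓ U j) := by
        ext z
        simp [piece]
        tauto
      have h0 := congrArg (fun s : alg f q (U i ⊓ U j) => PowerSeries.coeff k (s.1 a)) (cpt i j)
      change PowerSeries.coeff k (ambRes f q inf_le_left (sf i).1 a) =
        PowerSeries.coeff k (ambRes f q inf_le_right (sf j).1 a) at h0
      rw [coeff_ambRes, coeff_ambRes] at h0
      have h1 := congrArg (X.presheaf.map (eqToHom hV).op) h0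
      rw [rPiece, rPiece, ← CommRingCat.comp_apply, ← CommRingCat.comp_apply, ← Functor.map_comp,
        ← Functor.map_comp] at h1
      exact h1
  choose c hc hu using fun a k => hc a k
  let s : Amb f q (iSup U) := fun a => PowerSeries.mk fun k => c a k
  have hs : ∀ i, ambRes f q (le_iSup U i) s = (sf i).1 := fun i => amb_ext f q fun a k => by
    rw [coeff_ambRes, PowerSeries.coeff_mk]
    exact hc a k i
  have hmem : s ∈ alg f q (iSup U) := by
    intro x hx
    obtain ⟨i, hi⟩ := Opens.mem_iSup.mp hx
    obtain ⟨V, hV, hxV, hP⟩ := (sf i).2 x hi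
    refine ⟨V, hV.trans (le_iSup U i), hxV, ?_⟩
    rwa [← ambRes_ambRes f q (le_iSup U i) hV, hs i]
  refine ⟨⟨s, hmem⟩, fun i => Subtype.ext (hs i), fun t ht => Subtype.ext (amb_ext f q fun a k => ?_)⟩
  change PowerSeries.coeff k (t.1 a) = PowerSeries.coeff k (PowerSeries.mk _)
  rw [PowerSeries.coeff_mk]
  refine hu a k _ fun i => ?_
  rw [← coeff_ambRes, show ambRes f q (le_iSup U i) t.1 = (sf i).1 from congrArg Subtype.val (ht i)]

/-- polynomials surject onto the sections over an affine open -/
def Φalg (W : S.Opens) : MvPolynomial (Fin (n + 1)) Γ(S, W) →+* alg f q W :=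
  (Φ f q W).codRestrict _ (Φ_mem f q W)

@[simp] lemma Φalg_coe {W : S.Opens} (P : MvPolynomial (Fin (n + 1)) Γ(S, W)) :
    (Φalg f q W P : Amb f q W) = Φ f q W P := rfl

variable (i : X ⟶ CohB1.ProjSpaceOver n S) [IsClosedImmersion i]
  (hi : i ≫ CohB1.ProjSpaceOver.toBase n S = f) (hq : i ≫ toPZ n S = q)

include hi hq in
theorem Φalg_surjective {U : S.Opens} (hU : IsAffineOpen U) :
    Function.Surjective (Φalg f q U) := fun s => by
  obtain ⟨P, hP⟩ := (alg_eq_range f q i hi hq hU).le s.2
  exact ⟨P, Subtype.ext hP⟩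

include hi hq in
theorem algPresheaf_isQC : RelSpec.IsQC (algPresheaf f q) (algStrHom f q) := by
  intro U hU r
  letI : Algebra (alg f q U) (alg f q (S.basicOpen r)) :=
    (algRes f q (S.basicOpen_le r)).toAlgebra
  change IsLocalization.Away (algStr f q U r) (alg f q (S.basicOpen r))
  letI : Algebra Γ(S, U) Γ(S, S.basicOpen r) :=
    (S.presheaf.map (homOfLE (S.basicOpen_le r)).op).hom.toAlgebra
  have : IsLocalization.Away r Γ(S, S.basicOpen r) := hU.isLocalization_basicOpen r
  refine IsLocalization.Away.mk _ ?_ ?_ ?_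
  · rw [RingHom.algebraMap_toAlgebra]
    have h : algRes f q (S.basicOpen_le r) (algStr f q U r) =
        algStr f q (S.basicOpen r) (algebraMap _ Γ(S, S.basicOpen r) r) :=
      Subtype.ext (ambRes_str f q _ r)
    rw [h]
    exact (IsLocalization.Away.algebraMap_isUnit r).map _
  · intro s
    obtain ⟨P, rfl⟩ := Φalg_surjective f q i hi hq (hU.basicOpen r) s
    obtain ⟨m, P0, hP0⟩ := exists_C_pow_mul_eq_map r P
    refine ⟨m, Φalg f q U P0, ?_⟩
    rw [RingHom.algebraMap_toAlgebra]
    refine Subtype.ext ?_
    simp only [Subring.coe_mul, SubmonoidClass.coe_pow, algRes_coe, Φalg_coe, algStr_coe,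
      ambRes_str, ambRes_Φ]
    erw [hP0]
    rw [map_mul, Φ_C, map_pow, map_pow, mul_comm]
    rfl
  · intro x y h
    rw [RingHom.algebraMap_toAlgebra] at h
    obtain ⟨P, hP⟩ := Φalg_surjective f q i hi hq hU (x - y)
    have hd : DegLT f q (x - y).1 (P.totalDegree + 1) := by rw [← hP]; exact degLT_Φ f q P
    obtain ⟨m, hm⟩ := exists_pow_mul_eq_zero f q i hi hq hU r hd
      (by rw [AddSubgroupClass.coe_sub, map_sub, sub_eq_zero]; exact congrArg Subtype.val h)
    refine ⟨m, Subtype.ext ?_⟩
    rw [AddSubgroupClass.coe_sub, mul_sub, sub_eq_zero] at hm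
    simpa using hm

/-- degree `d` -/
def deg (W : S.Opens) (d : ℕ) : AddSubgroup (alg f q W) where
  carrier := {s | ∀ a k, k ≠ d → PowerSeries.coeff k (s.1 a) = 0}
  zero_mem' a k _ := by simp
  add_mem' hs ht a k hk := by simp [hs a k hk, ht a k hk]
  neg_mem' hs a k hk := by simp [hs a k hk]

lemma deg_one_mem (W : S.Opens) : (1 : alg f q W) ∈ deg f q W 0 := fun a k hk => by
  simp [PowerSeries.coeff_one, hk]

lemma deg_mul_mem (W : S.Opens) {d e : ℕ} {s t : alg f q W} (hs : s ∈ deg f q W d)
    (ht : t ∈ deg f q W e) : s * t ∈ deg f q W (d + e) := by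
  intro a k hk
  rw [Subring.coe_mul, Pi.mul_apply, PowerSeries.coeff_mul]
  refine Finset.sum_eq_zero fun p hp => ?_
  rw [Finset.HasAntidiagonal.mem_antidiagonal] at hp
  by_cases h : p.1 = d
  · rw [ht a p.2 (by omega), mul_zero]
  · rw [hs a p.1 h, zero_mul]

instance gradedMonoid (W : S.Opens) : SetLike.GradedMonoid (deg f q W) where
  one_mem := deg_one_mem f q W
  mul_mem _ _ _ _ hs ht := deg_mul_mem f q W hs ht

lemma Φalg_mem_deg {W : S.Opens} {P : MvPolynomial (Fin (n + 1)) Γ(S, W)} {d : ℕ}
    (hP : P.IsHomogeneous d) : Φalg f q W P ∈ deg f q W d := fun a k hk => by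
  rw [Φalg_coe, coeff_Φ, MvPolynomial.homogeneousComponent_of_mem hP, if_neg hk, map_zero]

lemma eq_Φalg_component {W : S.Opens} {d : ℕ} (P : MvPolynomial (Fin (n + 1)) Γ(S, W))
    (h : Φalg f q W P ∈ deg f q W d) :
    Φalg f q W (MvPolynomial.homogeneousComponent d P) = Φalg f q W P := by
  refine Subtype.ext (amb_ext f q fun a k => ?_)
  by_cases hk : k = d
  · subst hk
    rw [Φalg_coe, Φalg_coe, coeff_Φ, coeff_Φ,
      MvPolynomial.homogeneousComponent_of_mem (MvPolynomial.homogeneousComponent_isHomogeneous k P),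
      if_pos rfl]
  · rw [h a k hk, Φalg_mem_deg f q (MvPolynomial.homogeneousComponent_isHomogeneous d P) a k hk]

/-- extraction of one coefficient -/
def coeffHom (W : S.Opens) (a : Fin (n + 1)) (k : ℕ) : alg f q W →+ Γ(X, piece f q a W) where
  toFun s := PowerSeries.coeff k (s.1 a)
  map_zero' := by simp
  map_add' s t := by simp

lemma coeff_coe (W : S.Opens) (x : DirectSum ℕ fun d => deg f q W d) (a : Fin (n + 1)) (k : ℕ) :
    coeffHom f q W a k (DirectSum.coeAddMonoidHom (deg f q W) x) =
      PowerSeries.coeff k (((x k : deg f q W k) : alg f q W).1 a) := by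
  classical
  induction x using DirectSum.induction_on with
  | zero => simp
  | of d y =>
    rw [DirectSum.coeAddMonoidHom_of]
    by_cases hk : k = d
    · subst hk; rw [DirectSum.of_eq_same]; rfl
    · rw [DirectSum.of_eq_of_ne _ _ _ hk]
      change PowerSeries.coeff k ((y : alg f q W).1 a) = _
      rw [y.2 a k hk]; simp
  | add x y hx hy => simp [hx, hy]

include hi hq in
theorem isInternal_deg {U : S.Opens} (hU : IsAffineOpen U) :
    DirectSum.IsInternal (deg f q U) := by
  classical
  refine ⟨fun x y h => ?_, fun s => ?_⟩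
  · refine DFinsupp.ext fun d => Subtype.ext (Subtype.ext (amb_ext f q fun a k => ?_))
    by_cases hk : k = d
    · subst hk
      rw [← coeff_coe, ← coeff_coe]
      exact congrArg (coeffHom f q U a k) h
    · rw [(x d).2 a k hk, (y d).2 a k hk]
  · obtain ⟨P, rfl⟩ := Φalg_surjective f q i hi hq hU s
    refine ⟨∑ d ∈ Finset.range (P.totalDegree + 1), DirectSum.of _ d
      ⟨_, Φalg_mem_deg f q (MvPolynomial.homogeneousComponent_isHomogeneous d P)⟩, ?_⟩
    rw [map_sum]
    simp only [DirectSum.coeAddMonoidHom_of]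
    rw [← map_sum, MvPolynomial.sum_homogeneousComponent]

/-- the grading over an affine open -/
def gradedRing {U : S.Opens} (hU : IsAffineOpen U) : GradedRing (deg f q U) :=
  { gradedMonoid f q U, (isInternal_deg f q i hi hq hU).chooseDecomposition _ with }

/-- the quasi-coherent graded algebra -/
def coordAlg : RelProj.QCGrAlg S where
  presheaf := algPresheaf f q
  isSheaf := algPresheaf_isSheaf f q
  str := algStrHom f q
  isQC := algPresheaf_isQC f q i hi hq
  deg U _ := deg f q U
  graded U hU := gradedRing f q i hi hq hU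
  map_mem {U V} _ _ h {d x} hx a k hk := by
    change PowerSeries.coeff k (ambRes f q h x.1 a) = 0
    rw [coeff_ambRes, hx a k hk, map_zero]
  str_mem U hU r a k hk := by
    change PowerSeries.coeff k (ambStr f q U r a) = 0
    rw [ambStr_apply, PowerSeries.coeff_C, if_neg hk]

theorem coordAlg_isGenDegOne : (coordAlg f q i hi hq).IsGenDegOne := by
  intro U hU
  rw [eq_top_iff]
  rintro s -
  obtain ⟨P, rfl⟩ := Φalg_surjective f q i hi hq hU s
  induction P using MvPolynomial.induction_on with
  | C r => exact Subring.subset_closure (Or.inl (Φalg_mem_deg f q (MvPolynomial.isHomogeneous_C _ r)))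
  | add p q' hp hq' => rw [map_add]; exact add_mem hp hq'
  | mul_X p j hp =>
    rw [map_mul]
    exact mul_mem hp (Subring.subset_closure (Or.inr (Φalg_mem_deg f q (MvPolynomial.isHomogeneous_X _ j))))

theorem coordAlg_isFTDeg : (coordAlg f q i hi hq).IsFTDeg 1 := by
  classical
  intro U hU
  letI : DecidableEq (alg f q U) := Classical.decEq _
  let T : Fin (n + 1) → alg f q U := fun j => Φalg f q U (MvPolynomial.X j)
  refine ⟨Finset.univ.image T, ?_, fun x hx => ?_⟩
  · intro y hy
    obtain ⟨j, -, rfl⟩ := Finset.mem_image.mp hy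
    exact Φalg_mem_deg f q (MvPolynomial.isHomogeneous_X _ j)
  · obtain ⟨P, rfl⟩ := Φalg_surjective f q i hi hq hU x
    rw [← eq_Φalg_component f q P hx]
    have hlin : ∀ Q : MvPolynomial (Fin (n + 1)) Γ(S, U), Q.IsHomogeneous 1 →
        Q = ∑ j, MvPolynomial.C (Q.coeff (Finsupp.single j 1)) * MvPolynomial.X j := by
      intro Q hQ
      ext e
      rw [MvPolynomial.coeff_sum]
      simp only [MvPolynomial.coeff_C_mul, MvPolynomial.coeff_X]
      by_cases he : ∃ j, e = Finsupp.single j 1
      · obtain ⟨j, rfl⟩ := he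
        rw [Finset.sum_eq_single j (fun b _ hb => ?_) (by simp)]
        · simp
        · simp [Finsupp.single_left_inj, hb]
      · rw [Finset.sum_eq_zero fun j _ => by
          rw [if_neg fun h => he ⟨j, h.symm⟩, mul_zero]]
        refine hQ.coeff_eq_zero fun h => he ?_
        obtain ⟨j, hj⟩ : ∃ j, e j ≠ 0 := by
          by_contra hne
          push_neg at hne
          simp [Finsupp.degree_apply, Finset.sum_eq_zero fun j _ => hne j] at h
        refine ⟨j, Finsupp.ext fun l => ?_⟩
        have hsum : ∑ l, e l = 1 := by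
          rw [← Finsupp.degree_eq_sum]; exact h
        have hj1 : e j = 1 := by
          have := Finset.single_le_sum (f := fun l => e l) (fun _ _ => Nat.zero_le _) (Finset.mem_univ j)
          simp only [hsum] at this
          omega
        by_cases hl : l = j
        · subst hl; simp [hj1]
        · rw [Finsupp.single_eq_of_ne hl]
          have := Finset.add_le_sum (f := fun l => e l) (fun _ _ => Nat.zero_le _) (Finset.mem_univ j) (Finset.mem_univ l) (Ne.symm hl)
          simp only [hsum] at this
          omega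
    set Q := MvPolynomial.homogeneousComponent 1 P with hQdef
    let c : Fin (n + 1) → Γ(S, U) := fun j => Q.coeff (Finsupp.single j 1)
    refine ⟨fun t => ∑ j ∈ Finset.univ.filter (fun j => T j = t), c j, ?_⟩
    have h1 : ∀ t, algStr f q U (∑ j ∈ Finset.univ.filter (fun j => T j = t), c j) * t =
        ∑ j ∈ Finset.univ.filter (fun j => T j = t), algStr f q U (c j) * T j := by
      intro t
      rw [map_sum, Finset.sum_mul]
      exact Finset.sum_congr rfl fun j hj => by rw [(Finset.mem_filter.mp hj).2]
    have key : Φalg f q U Q =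
        ∑ t ∈ Finset.univ.image T, algStr f q U (∑ j ∈ Finset.univ.filter (fun j => T j = t), c j) * t := by
      simp only [h1]
      rw [Finset.sum_fiberwise_of_maps_to
        (fun j _ => Finset.mem_image_of_mem T (Finset.mem_univ j))]
      conv_lhs => rw [hlin Q (MvPolynomial.homogeneousComponent_isHomogeneous 1 P)]
      rw [map_sum]
      refine Finset.sum_congr rfl fun j _ => ?_
      rw [map_mul]
      exact congrArg (· * T j) (Subtype.ext (Φ_C f q _))
    exact key

end RelProjLib

end
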